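import Groth.Agent.DEquiv.K350.SibFF

set_option autoImplicit false
set_option linter.unusedSectionVars false
universe v v' v'' u u' u''

namespace K350.Sib

open CategoryTheory CategoryTheory.Limits CategoryTheory.Pretriangulated
  CategoryTheory.Triangulated K350.HD K350.Th K350.Tri K350.FF
open scoped ZeroObject

variable {A : Type u} [Category.{v} A] [Abelian A]
  {C : Type u'} [Category.{v'} C] [Preadditive C] [HasZeroObject C] [HasShift C ℤ]
  [∀ n : ℤ, (shiftFunctor C n).Additive] [Pretriangulated C]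
  {D : Type u''} [Category.{v''} D] [Preadditive D] [HasZeroObject D] [HasShift D ℤ]
  [∀ n : ℤ, (shiftFunctor D n).Additive] [Pretriangulated D]
  {t : TStructure C} {ι : A ⥤ C} (h : HeartData t ι) {F F' : C ⥤ D} [F.CommShift ℤ]
  [F.IsTriangulated] [F'.CommShift ℤ] [F'.IsTriangulated] (τ : ι ⋙ F ≅ ι ⋙ F')

include h in
/-- The isomorphisms `th` are natural for all morphisms between shifts of objects of the heart. -/
lemma th_natural [F.Full] [F.Faithful] (k : ℕ) : ∀ (M N : A) (m n : ℤ) (_ : n = m + k)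
    (ξ : (ι.obj M)⟦m⟧ ⟶ (ι.obj N)⟦n⟧), F.map ξ ≫ (th τ n N).hom = (th τ m M).hom ≫ F'.map ξ := by
  induction k with
  | zero =>
    intro M N m n hmn ξ
    obtain rfl : n = m := by simpa using hmn
    obtain ⟨f0, rfl⟩ := h.map_surj n ξ
    exact th_nat τ n f0
  | succ k ih =>
    intro M N m n hmn ξ
    have hle : t.IsLE ((ι.obj N)⟦n⟧) (-m - 1) := by
      have := h.le N n (-n) (by omega)
      exact t.isLE_of_le _ (-n) _ (by push_cast at hmn; omega)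
    obtain ⟨E, p, _, hp⟩ := h.eff M (-m) m (by omega) _ ξ hle
    obtain ⟨K, i, δ, hT⟩ := exists_triangle_of_epi h p m
    obtain ⟨κ, hκ⟩ := yon3 hT ξ hp
    let e : (ι.obj K)⟦m + 1⟧ ≅ (ι.obj K)⟦m⟧⟦(1:ℤ)⟧ :=
      (shiftFunctorAdd' C m 1 (m + 1) rfl).app (ι.obj K)
    have h1 := ih K N (m + 1) n (by push_cast at hmn; omega) (e.hom ≫ κ)
    have hth : F.map e.hom ≫ (cs F ((ι.obj K)⟦m⟧)).hom ≫ ((th τ m K).hom)⟦(1:ℤ)⟧' =
      (th τ (m + 1) K).hom ≫ F'.map e.hom ≫ (cs F' ((ι.obj K)⟦m⟧)).hom :=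
      th_cs τ m (m + 1) rfl K
    obtain ⟨c, hc1, hc2⟩ := tr3₁ (map_dist F hT) (map_dist F' hT) (th τ m E).hom (th τ m M).hom
      (th_nat τ m p)
    have h2 : c = (th τ m K).hom := by
      rw [← sub_eq_zero]
      obtain ⟨w, hw⟩ := inv_rot' (map_dist F' hT)
      obtain ⟨ρ, hρ⟩ := coyon2 hw (c - (th τ m K).hom) (by
        rw [Preadditive.sub_comp, ← hc1, th_nat, sub_self])
      let ee : (F'.obj ((ι.obj M)⟦m⟧))⟦(-1:ℤ)⟧ ≅ F'.obj ((ι.obj M)⟦m - 1⟧) :=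
        ((F'.commShiftIso (-1:ℤ)).app ((ι.obj M)⟦m⟧)).symm ≪≫
          F'.mapIso (shIso _ m (-1) (m - 1) (by omega))
      have h3 : ρ ≫ ee.hom = 0 := hom_zero τ (negVan_of_full h) K M m (m - 1) (by omega) _
      have h4 : ρ = 0 := by rw [← cancel_mono ee.hom, h3, zero_comp]
      rw [hρ, h4, zero_comp]
    rw [h2] at hc2
    have h5 : F.map δ = (F.map δ ≫ (cs F ((ι.obj K)⟦m⟧)).hom) ≫ (cs F ((ι.obj K)⟦m⟧)).inv := by
      simp
    have h6 : F.map κ ≫ (th τ n N).hom = (cs F ((ι.obj K)⟦m⟧)).hom ≫ ((th τ m K).hom)⟦(1:ℤ)⟧' ≫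
        (cs F' ((ι.obj K)⟦m⟧)).inv ≫ F'.map κ := by
      rw [← cancel_epi (F.map e.hom), reassoc_of% hth, Iso.hom_inv_id_assoc, ← Category.assoc,
        ← Functor.map_comp, h1, Functor.map_comp]
    rw [hκ, Functor.map_comp, Category.assoc, h6, ← Category.assoc (F.map δ), ← Category.assoc
      (F.map δ ≫ _), hc2, Category.assoc, Category.assoc, Iso.hom_inv_id_assoc, ← Functor.map_comp]

include h in
lemma th_natural' [F.Full] [F.Faithful] (M N : A) (m n : ℤ)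
    (ξ : (ι.obj M)⟦m⟧ ⟶ (ι.obj N)⟦n⟧) : F.map ξ ≫ (th τ n N).hom = (th τ m M).hom ≫ F'.map ξ := by
  by_cases hmn : m ≤ n
  · exact th_natural h τ (n - m).toNat M N m n (by omega) ξ
  · have h1 := h.le M m (-m) (by omega)
    have h2 := h.ge N n (-n) (by omega)
    have h3 : ξ = 0 := t.zero ξ (-m) (-n) (by omega)
    rw [h3, Functor.map_zero, Functor.map_zero, zero_comp, comp_zero]

section

variable (t) in
/-- `X` has amplitude in `[b - n, b]`. -/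
def InR (n : ℕ) (b : ℤ) (X : C) : Prop := t.IsGE X (b - n) ∧ t.IsLE X b

variable (t) in
/-- `X` has width `≤ n`. -/
def Wd (n : ℕ) (X : C) : Prop := ∃ b : ℤ, InR t n b X

lemma InR.mono {n m : ℕ} (hnm : n ≤ m) {b : ℤ} {X : C} (hX : InR t n b X) : InR t m b X := by
  obtain ⟨h1, h2⟩ := hX
  exact ⟨t.isGE_of_ge _ (b - m) (b - n) (by omega), h2⟩

lemma Wd.mono {n m : ℕ} (hnm : n ≤ m) {X : C} (hX : Wd t n X) : Wd t m X := by
  obtain ⟨b, hb⟩ := hX
  exact ⟨b, hb.mono hnm⟩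

/-- If `X` has width `≤ n + 1` with respect to two different bounds then it has width `≤ n`. -/
lemma Wd.of_two {n : ℕ} {b b' : ℤ} (hb : b < b') {X : C} (h1 : InR t (n + 1) b X)
    (h2 : InR t (n + 1) b' X) : Wd t n X := by
  obtain ⟨_, h1'⟩ := h1
  obtain ⟨h2', _⟩ := h2
  exact ⟨b, t.isGE_of_ge _ (b - n) (b' - (n + 1 : ℕ)) (by push_cast; omega), h1'⟩

/-- A natural isomorphism `F ≅ F'` on objects of width `≤ n`. -/
def Good (t : TStructure C) (F F' : C ⥤ D) (n : ℕ) (s : ∀ X : C, F.obj X ⟶ F'.obj X) : Prop :=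
  (∀ X, Wd t n X → IsIso (s X)) ∧
    ∀ (X Y : C) (f : X ⟶ Y), Wd t n X → Wd t n Y → F.map f ≫ s Y = s X ≫ F'.map f

include h τ in
lemma exists_good_zero [F.Full] [F.Faithful] : ∃ s : ∀ X : C, F.obj X ⟶ F'.obj X,
    Good t F F' 0 s := by
  classical
  have h1 : ∀ X : C, Wd t 0 X → ∃ (m : ℤ) (N : A), Nonempty ((ι.obj N)⟦m⟧ ≅ X) := by
    rintro X ⟨b, hb1, hb2⟩
    obtain ⟨M, hM⟩ := h.exists_iso X b (-b) (by omega) hb2 (by simpa using hb1)
    exact ⟨-b, M, hM⟩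
  choose m N e using h1
  let s : ∀ X : C, F.obj X ⟶ F'.obj X := fun X => if hX : Wd t 0 X then
    F.map (e X hX).some.inv ≫ (th τ (m X hX) (N X hX)).hom ≫ F'.map (e X hX).some.hom else 0
  have hs : ∀ (X : C) (hX : Wd t 0 X), s X =
    F.map (e X hX).some.inv ≫ (th τ (m X hX) (N X hX)).hom ≫ F'.map (e X hX).some.hom :=
    fun X hX => dif_pos hX
  refine ⟨s, ?_, ?_⟩
  · intro X hX
    rw [hs X hX]
    infer_instance
  · intro X Y f hX hY
    rw [hs X hX, hs Y hY]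
    have h2 := th_natural' h τ (N X hX) (N Y hY) (m X hX) (m Y hY)
      ((e X hX).some.hom ≫ f ≫ (e Y hY).some.inv)
    have h3 : F.map (e X hX).some.inv ≫ (F.map ((e X hX).some.hom ≫ f ≫ (e Y hY).some.inv) ≫
      (th τ (m Y hY) (N Y hY)).hom) ≫ F'.map (e Y hY).some.hom =
      F.map (e X hX).some.inv ≫ ((th τ (m X hX) (N X hX)).hom ≫
      F'.map ((e X hX).some.hom ≫ f ≫ (e Y hY).some.inv)) ≫ F'.map (e Y hY).some.hom := by rw [h2]
    simp only [Functor.map_comp, Category.assoc, Iso.map_inv_hom_id_assoc,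
      Iso.map_inv_hom_id, Category.comp_id] at h3
    simpa only [Category.assoc] using h3

include h in
/-- The devissage step with negative objects. -/
lemma dev2 (hneg : ∀ X : A, ∃ (N : A) (p : N ⟶ X), Epi p ∧ ∀ f : X ⟶ N, f = 0)
    (X X₂ Z : C) (q : X ⟶ Z) (b m : ℤ) (hbm : b + m = 0) (hX : t.IsLE X b) (hX₂ : t.IsLE X₂ b)
    (hZ : t.IsLE Z (b - 1)) :
    ∃ (N : A) (Y : C) (g : (ι.obj N)⟦m⟧ ⟶ X) (π : X ⟶ Y)
      (δ : Y ⟶ (ι.obj N)⟦m⟧⟦(1:ℤ)⟧), Triangle.mk g π δ ∈ distTriang C ∧ t.IsLE Y (b - 1) ∧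
        (∀ a, a < b → t.IsGE X a → t.IsGE Y a) ∧ g ≫ q = 0 ∧
        (∀ φ : X ⟶ (ι.obj N)⟦m⟧, φ = 0) ∧ (∀ φ : X₂ ⟶ (ι.obj N)⟦m⟧, φ = 0) := by
  obtain ⟨M1, hM1⟩ := h.neg X b m hbm hX
  obtain ⟨M2, hM2⟩ := h.neg X₂ b m hbm hX₂
  obtain ⟨N, Y, g, π, δ, hT, hY, hN, hg, hY'⟩ := h.dev
    (fun N => (∀ φ : M1 ⟶ N, φ = 0) ∧ (∀ φ : M2 ⟶ N, φ = 0)) (by
      intro N₀
      obtain ⟨N, p, hp, hN⟩ := hneg (N₀ ⊞ (M1 ⊞ M2))
      refine ⟨N, p ≫ biprod.fst, epi_comp' hp inferInstance, ?_, ?_⟩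
      · intro φ
        have h1 := hN (biprod.snd ≫ biprod.fst ≫ φ)
        have h2 := congrArg (fun x => biprod.inl ≫ biprod.inr ≫ x) h1
        simpa using h2
      · intro φ
        have h1 := hN (biprod.snd ≫ biprod.snd ≫ φ)
        have h2 := congrArg (fun x => biprod.inr ≫ biprod.inr ≫ x) h1
        simpa using h2) X Z q b m hbm hX hZ
  exact ⟨N, Y, g, π, δ, hT, hY, hY', hg, hM1 N hN.1, hM2 N hN.2⟩

include τ in
/-- Uniqueness. -/
lemma uniq [F.Full] {X X' Y : C} {N : A} {m : ℤ} {g : (ι.obj N)⟦m⟧ ⟶ X'} {π : X' ⟶ Y}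
    {δ : Y ⟶ (ι.obj N)⟦m⟧⟦(1:ℤ)⟧} (hT : Triangle.mk g π δ ∈ distTriang C)
    (hX : ∀ φ : X ⟶ (ι.obj N)⟦m⟧, φ = 0) {s s' : F.obj X ⟶ F'.obj X'}
    (hs : s ≫ F'.map π = s' ≫ F'.map π) : s = s' := by
  rw [← sub_eq_zero]
  obtain ⟨l, hl⟩ := coyon2 (map_dist F' hT) (s - s') (by
    rw [Preadditive.sub_comp, hs, sub_self])
  obtain ⟨f, hf⟩ := F.map_surjective (l ≫ (th τ m N).inv)
  rw [hX f, Functor.map_zero] at hf
  have h1 : l = 0 := by rw [← cancel_mono (th τ m N).inv, ← hf, zero_comp]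
  rw [hl, h1, zero_comp]

/-- Existence. -/
lemma exis {n : ℕ} {s : ∀ X : C, F.obj X ⟶ F'.obj X} (hs : Good t F F' n s) {X Y : C} {M : C}
    {g : M ⟶ X} {π : X ⟶ Y} {δ : Y ⟶ M⟦(1:ℤ)⟧} (hT : Triangle.mk g π δ ∈ distTriang C)
    (hY : Wd t n Y) (hM : Wd t n (M⟦(1:ℤ)⟧)) :
    ∃ φ : F.obj X ⟶ F'.obj X, IsIso φ ∧ φ ≫ F'.map π = F.map π ≫ s Y := by
  obtain ⟨x, hx⟩ := (shiftFunctor D (1:ℤ)).map_surjective
    ((cs F M).inv ≫ s (M⟦(1:ℤ)⟧) ≫ (cs F' M).hom)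
  have h1 : IsIso (s (M⟦(1:ℤ)⟧)) := hs.1 _ hM
  have h2 : IsIso ((shiftFunctor D (1:ℤ)).map x) := by rw [hx]; infer_instance
  have h3 : IsIso x := isIso_of_reflects_iso x (shiftFunctor D (1:ℤ))
  obtain ⟨φ, -, h4, h5⟩ := tr3₂_iso (map_dist F hT) (map_dist F' hT) x (s Y) (by
    rw [hx, Category.assoc, Iso.hom_inv_id_assoc, ← Category.assoc, hs.2 _ _ _ hY hM,
      Category.assoc]) h3 (hs.1 _ hY)
  exact ⟨φ, h5, h4.symm⟩

lemma isLE_biprod {X Y : C} {b : ℤ} (hX : t.IsLE X b) (hY : t.IsLE Y b) : t.IsLE (X ⊞ Y) b :=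
  t.isLE₂ _ (binaryBiproductTriangle_distinguished X Y) b hX hY

include h in
lemma wd_shift_one (n : ℕ) (N : A) (m : ℤ) : Wd t n ((ι.obj N)⟦m⟧⟦(1:ℤ)⟧) := by
  have h1 := h.le N m (-m) (by omega)
  have h2 := h.ge N m (-m) (by omega)
  refine ⟨-m - 1, ?_, t.isLE_shift _ (-m) 1 (-m - 1) (by omega)⟩
  have h3 := t.isGE_shift ((ι.obj N)⟦m⟧) (-m) 1 (-m - 1) (by omega)
  exact t.isGE_of_ge _ (-m - 1 - n) (-m - 1) (by omega)

include h τ in
lemma exists_good_succ (hneg : ∀ X : A, ∃ (N : A) (p : N ⟶ X), Epi p ∧ ∀ f : X ⟶ N, f = 0)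
    [F.Full] (n : ℕ) (s : ∀ X : C, F.obj X ⟶ F'.obj X)
    (hs : Good t F F' n s) : ∃ s' : ∀ X : C, F.obj X ⟶ F'.obj X, Good t F F' (n + 1) s' ∧
      ∀ X, Wd t n X → s' X = s X := by
  classical
  let Q : ∀ X : C, (F.obj X ⟶ F'.obj X) → Prop := fun X φ => IsIso φ ∧ (Wd t n X → φ = s X) ∧
    ∀ (b m : ℤ) (_ : b + m = 0) (_ : InR t (n + 1) b X) (N : A) (Y : C) (g : (ι.obj N)⟦m⟧ ⟶ X)
      (π : X ⟶ Y) (δ : Y ⟶ (ι.obj N)⟦m⟧⟦(1:ℤ)⟧) (_ : Triangle.mk g π δ ∈ distTriang C)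
      (_ : InR t n (b - 1) Y) (_ : ∀ φ : X ⟶ (ι.obj N)⟦m⟧, φ = 0), φ ≫ F'.map π = F.map π ≫ s Y
  have claim : ∀ X, Wd t (n + 1) X → ∃ φ, Q X φ := by
    intro X hX
    by_cases hXn : Wd t n X
    · refine ⟨s X, hs.1 X hXn, fun _ => rfl, ?_⟩
      intro b m _ _ N Y g π δ _ hY _
      exact (hs.2 X Y π hXn ⟨_, hY⟩).symm
    · obtain ⟨b₀, hb₀⟩ := hX
      obtain ⟨N₀, Y₀, g₀, π₀, δ₀, hT₀, hY₀, hY₀', -, hneg₀, -⟩ := dev2 h hneg X X (0 : C) 0 b₀
        (-b₀) (by omega) hb₀.2 hb₀.2 inferInstance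
      have hY₀R : InR t n (b₀ - 1) Y₀ := by
        refine ⟨?_, hY₀⟩
        have := hY₀' (b₀ - (n + 1 : ℕ)) (by push_cast; omega) hb₀.1
        convert this using 1
        push_cast; omega
      obtain ⟨φ₀, hφ₀, hφ₀'⟩ := exis hs hT₀ ⟨_, hY₀R⟩ (wd_shift_one h n N₀ _)
      refine ⟨φ₀, hφ₀, fun h1 => absurd h1 hXn, ?_⟩
      intro b m hbm hb N Y g π δ hT hY hN
      obtain rfl : b = b₀ := by
        by_contra hne
        rcases lt_or_gt_of_ne hne with hlt | hlt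
        · exact hXn (Wd.of_two hlt hb hb₀)
        · exact hXn (Wd.of_two hlt hb₀ hb)
      obtain ⟨N₃, Y₃, g₃, π₃, δ₃, hT₃, hY₃, hY₃', hg₃, hneg₃, -⟩ := dev2 h hneg X X (Y ⊞ Y₀)
        (biprod.lift π π₀) b (-b) (by omega) hb.2 hb.2 (isLE_biprod hY.2 hY₀)
      have hY₃R : InR t n (b - 1) Y₃ := by
        refine ⟨?_, hY₃⟩
        have := hY₃' (b - (n + 1 : ℕ)) (by push_cast; omega) hb.1
        convert this using 1
        push_cast; omega
      obtain ⟨φ₃, hφ₃, hφ₃'⟩ := exis hs hT₃ ⟨_, hY₃R⟩ (wd_shift_one h n N₃ _)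
      obtain ⟨y, hy⟩ := yon2 hT₃ π (by
        have := congrArg (fun x => x ≫ biprod.fst) hg₃
        simpa using this)
      obtain ⟨y₀, hy₀⟩ := yon2 hT₃ π₀ (by
        have := congrArg (fun x => x ≫ biprod.snd) hg₃
        simpa using this)
      have h1 : φ₃ ≫ F'.map π = F.map π ≫ s Y := by
        rw [hy, Functor.map_comp, reassoc_of% hφ₃', ← hs.2 _ _ y ⟨_, hY₃R⟩ ⟨_, hY⟩,
          Functor.map_comp, Category.assoc]
      have h2 : φ₃ ≫ F'.map π₀ = F.map π₀ ≫ s Y₀ := by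
        rw [hy₀, Functor.map_comp, reassoc_of% hφ₃', ← hs.2 _ _ y₀ ⟨_, hY₃R⟩ ⟨_, hY₀R⟩,
          Functor.map_comp, Category.assoc]
      have h3 : φ₃ = φ₀ := uniq τ hT₀ hneg₀ (by rw [h2, hφ₀'])
      rw [← h3, h1]
  choose σ hσ using claim
  let s' : ∀ X : C, F.obj X ⟶ F'.obj X := fun X => if hX : Wd t (n + 1) X then σ X hX else 0
  have hs' : ∀ (X : C) (_ : Wd t (n + 1) X), Q X (s' X) := fun X hX => by
    have : s' X = σ X hX := dif_pos hX
    rw [this]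
    exact hσ X hX
  have hs'' : ∀ X, Wd t n X → s' X = s X := fun X hX => (hs' X (hX.mono (by omega))).2.1 hX
  -- naturality
  have nat0 : ∀ (b : ℤ) (X X' : C) (f : X ⟶ X'), InR t (n + 1) b X → InR t (n + 1) b X' →
      F.map f ≫ s' X' = s' X ≫ F'.map f := by
    intro b X X' f hX hX'
    obtain ⟨N', Y', g', π', δ', hT', hY', hY'', -, hn1', hn2'⟩ := dev2 h hneg X' X (0 : C) 0 b
        (-b) (by omega) hX'.2 hX.2 inferInstance
    have hY'R : InR t n (b - 1) Y' := by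
      refine ⟨?_, hY'⟩
      have := hY'' (b - (n + 1 : ℕ)) (by push_cast; omega) hX'.1
      convert this using 1
      push_cast; omega
    obtain ⟨N, Y, g, π, δ, hT, hY, hYY, hq, hn1, -⟩ := dev2 h hneg X X Y' (f ≫ π') b
        (-b) (by omega) hX.2 hX.2 hY'
    have hYR : InR t n (b - 1) Y := by
      refine ⟨?_, hY⟩
      have := hYY (b - (n + 1 : ℕ)) (by push_cast; omega) hX.1
      convert this using 1
      push_cast; omega
    obtain ⟨y, hy⟩ := yon2 hT _ hq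
    have e1 := (hs' X ⟨b, hX⟩).2.2 b (-b) (by omega) hX N Y g π δ hT hYR hn1
    have e2 := (hs' X' ⟨b, hX'⟩).2.2 b (-b) (by omega) hX' N' Y' g' π' δ' hT' hY'R hn1'
    apply uniq τ hT' hn2'
    rw [Category.assoc, e2, Category.assoc, ← Functor.map_comp F', hy, ← Category.assoc (F.map f),
      ← Functor.map_comp F, hy, Functor.map_comp, Functor.map_comp, reassoc_of% e1,
      ← hs.2 _ _ y ⟨_, hYR⟩ ⟨_, hY'R⟩, Category.assoc]
  have nat1 : ∀ (k : ℕ) (b b' : ℤ) (_ : b' = b + k) (X X' : C) (f : X ⟶ X'),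
      InR t (n + 1) b X → InR t (n + 1) b' X' → F.map f ≫ s' X' = s' X ≫ F'.map f := by
    intro k
    induction k with
    | zero =>
      intro b b' hbb X X' f hX hX'
      obtain rfl : b' = b := by simpa using hbb
      exact nat0 b' X X' f hX hX'
    | succ k ih =>
      intro b b' hbb X X' f hX hX'
      have hXle : t.IsLE X b' := by
        have := hX.2
        exact t.isLE_of_le _ b b' (by push_cast at hbb; omega)
      obtain ⟨N', Y', g', π', δ', hT', hY', hY'', -, hn1', hn2'⟩ := dev2 h hneg X' X (0 : C) 0 b'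
        (-b') (by omega) hX'.2 hXle inferInstance
      have hY'R : InR t n (b' - 1) Y' := by
        refine ⟨?_, hY'⟩
        have := hY'' (b' - (n + 1 : ℕ)) (by push_cast; omega) hX'.1
        convert this using 1
        push_cast; omega
      have e2 := (hs' X' ⟨b', hX'⟩).2.2 b' (-b') (by omega) hX' N' Y' g' π' δ' hT' hY'R hn1'
      have e3 := ih b (b' - 1) (by push_cast at hbb; omega) X Y' (f ≫ π') hX (hY'R.mono (by omega))
      rw [hs'' Y' ⟨_, hY'R⟩] at e3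
      apply uniq τ hT' hn2'
      rw [Category.assoc, e2, Category.assoc, ← Functor.map_comp F', ← e3, Functor.map_comp,
        Category.assoc]
  have nat2 : ∀ (k : ℕ) (b b' : ℤ) (_ : b = b' + k) (X X' : C) (f : X ⟶ X'),
      InR t (n + 1) b X → InR t (n + 1) b' X' → F.map f ≫ s' X' = s' X ≫ F'.map f := by
    intro k
    induction k with
    | zero =>
      intro b b' hbb X X' f hX hX'
      obtain rfl : b = b' := by simpa using hbb
      exact nat0 b X X' f hX hX'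
    | succ k ih =>
      intro b b' hbb X X' f hX hX'
      have hXle : t.IsLE X' (b - 1) := by
        have := hX'.2
        exact t.isLE_of_le _ b' (b - 1) (by push_cast at hbb; omega)
      obtain ⟨N, Y, g, π, δ, hT, hY, hYY, hq, hn1, -⟩ := dev2 h hneg X X X' f b
        (-b) (by omega) hX.2 hX.2 hXle
      have hYR : InR t n (b - 1) Y := by
        refine ⟨?_, hY⟩
        have := hYY (b - (n + 1 : ℕ)) (by push_cast; omega) hX.1
        convert this using 1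
        push_cast; omega
      obtain ⟨f', hf'⟩ := yon2 hT _ hq
      have e1 := (hs' X ⟨b, hX⟩).2.2 b (-b) (by omega) hX N Y g π δ hT hYR hn1
      have e3 := ih (b - 1) b' (by push_cast at hbb; omega) Y X' f' (hYR.mono (by omega)) hX'
      rw [hs'' Y ⟨_, hYR⟩] at e3
      rw [hf', Functor.map_comp, Category.assoc, e3, Functor.map_comp, reassoc_of% e1]
  refine ⟨s', ⟨fun X hX => (hs' X hX).1, ?_⟩, hs''⟩
  rintro X X' f ⟨b, hX⟩ ⟨b', hX'⟩
  rcases le_total b b' with hbb | hbb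
  · exact nat1 (b' - b).toNat b b' (by omega) X X' f hX hX'
  · exact nat2 (b - b').toNat b b' (by omega) X X' f hX hX'

include h τ in
theorem sibling_iso (hneg : ∀ X : A, ∃ (N : A) (p : N ⟶ X), Epi p ∧ ∀ f : X ⟶ N, f = 0)
    [F.Full] [F.Faithful] (hb : ∀ X : C, ∃ a b : ℤ, t.IsGE X a ∧ t.IsLE X b) :
    Nonempty (F ≅ F') := by
  classical
  have h0 := exists_good_zero h τ
  have hS := exists_good_succ h τ hneg (F := F) (F' := F')
  choose nxt hnxt1 hnxt2 using hS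
  let S : ∀ n : ℕ, {s : ∀ X : C, F.obj X ⟶ F'.obj X // Good t F F' n s} := fun n =>
    Nat.rec ⟨h0.choose, h0.choose_spec⟩ (fun n s => ⟨nxt n s.1 s.2, hnxt1 n s.1 s.2⟩) n
  have hS1 : ∀ (n : ℕ) (X : C), Wd t n X → (S (n + 1)).1 X = (S n).1 X := fun n X hX =>
    hnxt2 n (S n).1 (S n).2 X hX
  have hS2 : ∀ (n k : ℕ) (X : C), Wd t n X → (S (n + k)).1 X = (S n).1 X := by
    intro n k X hX
    induction k with
    | zero => rfl
    | succ k ih => exact (hS1 (n + k) X (hX.mono (by omega))).trans ih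
  have hS3 : ∀ (n m : ℕ) (_ : n ≤ m) (X : C), Wd t n X → (S m).1 X = (S n).1 X := by
    intro n m hnm X hX
    obtain ⟨k, rfl⟩ := Nat.exists_eq_add_of_le hnm
    exact hS2 n k X hX
  have hw : ∀ X : C, ∃ n : ℕ, Wd t n X := by
    intro X
    obtain ⟨a, b, ha, hb⟩ := hb X
    refine ⟨(b - a).toNat, b, ?_, hb⟩
    exact t.isGE_of_ge _ _ a (by omega)
  choose w hw using hw
  have hi : ∀ X, IsIso ((S (w X)).1 X) := fun X => (S (w X)).2.1 X (hw X)
  refine ⟨NatIso.ofComponents (fun X => asIso ((S (w X)).1 X)) ?_⟩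
  intro X Y f
  change F.map f ≫ (S (w Y)).1 Y = (S (w X)).1 X ≫ F'.map f
  rw [← hS3 (w Y) (max (w X) (w Y)) (le_max_right _ _) Y (hw Y),
    ← hS3 (w X) (max (w X) (w Y)) (le_max_left _ _) X (hw X)]
  exact (S (max (w X) (w Y))).2.2 X Y f ((hw X).mono (le_max_left _ _))
    ((hw Y).mono (le_max_right _ _))

end

end K350.Sib
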