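import Groth.Agent.DEquiv.K350.Tri2

set_option autoImplicit false
set_option linter.unusedSectionVars false
universe v v' u u'

namespace K350.FF

open CategoryTheory CategoryTheory.Limits CategoryTheory.Pretriangulated K350.Tri

variable {C : Type u} [Category.{v} C] [Preadditive C] [HasZeroObject C] [HasShift C ℤ]
  [∀ n : ℤ, (shiftFunctor C n).Additive] [Pretriangulated C]
  {D : Type u'} [Category.{v'} D] [Preadditive D] [HasZeroObject D] [HasShift D ℤ]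
  [∀ n : ℤ, (shiftFunctor D n).Additive] [Pretriangulated D]
  (F : C ⥤ D) [F.CommShift ℤ] [F.IsTriangulated]

/-- Injectivity of `F` on `Hom(X, Y)`. -/
def Inj (X Y : C) : Prop := ∀ f : X ⟶ Y, F.map f = 0 → f = 0

/-- Surjectivity of `F` on `Hom(X, Y)`. -/
def Surj (X Y : C) : Prop := ∀ g : F.obj X ⟶ F.obj Y, ∃ f : X ⟶ Y, F.map f = g

variable {F}

lemma Inj.iso {X Y X' Y' : C} (h : Inj F X Y) (e : X ≅ X') (e' : Y ≅ Y') : Inj F X' Y' := by
  intro f hf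
  have h1 := h (e.hom ≫ f ≫ e'.inv) (by rw [Functor.map_comp, Functor.map_comp, hf]; simp)
  rw [← cancel_epi e.hom, ← cancel_mono e'.inv, Category.assoc, h1]
  simp

lemma Surj.iso {X Y X' Y' : C} (h : Surj F X Y) (e : X ≅ X') (e' : Y ≅ Y') : Surj F X' Y' := by
  intro g
  obtain ⟨f, hf⟩ := h (F.map e.hom ≫ g ≫ F.map e'.inv)
  refine ⟨e.inv ≫ f ≫ e'.hom, ?_⟩
  rw [Functor.map_comp, Functor.map_comp, hf]
  simp [← Functor.map_comp_assoc, ← Functor.map_comp]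

lemma Inj.shift {X Y : C} (h : Inj F X Y) (n : ℤ) : Inj F (X⟦n⟧) (Y⟦n⟧) := by
  intro f hf
  obtain ⟨g, rfl⟩ := (shiftFunctor C n).map_surjective f
  have h1 : F.map g = 0 := by
    apply (shiftFunctor D n).map_injective
    rw [← cancel_epi ((F.commShiftIso n).hom.app X), Functor.map_zero, comp_zero]
    refine ((F.commShiftIso n).hom.naturality g).symm.trans ?_
    change F.map (g⟦n⟧') ≫ _ = 0
    rw [hf]
    simp
  rw [h g h1, Functor.map_zero]

lemma Surj.shift {X Y : C} (h : Surj F X Y) (n : ℤ) : Surj F (X⟦n⟧) (Y⟦n⟧) := by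
  intro g
  obtain ⟨g', hg'⟩ := (shiftFunctor D n).map_surjective
    ((F.commShiftIso n).inv.app X ≫ g ≫ (F.commShiftIso n).hom.app Y)
  obtain ⟨f, rfl⟩ := h g'
  refine ⟨f⟦n⟧', ?_⟩
  have h1 : F.map (f⟦n⟧') ≫ (F.commShiftIso n).hom.app Y =
    (F.commShiftIso n).hom.app X ≫ (F.map f)⟦n⟧' := (F.commShiftIso n).hom.naturality f
  rw [← cancel_mono ((F.commShiftIso n).hom.app Y)]
  refine h1.trans ?_
  rw [hg']
  simp

variable {X Y Z W : C} {a : X ⟶ Y} {b : Y ⟶ Z} {c : Z ⟶ X⟦(1 : ℤ)⟧}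

lemma Inj.tri_left (hT : Triangle.mk a b c ∈ distTriang C) (h1 : Inj F X W) (h3 : Inj F Z W)
    (h1' : Surj F (X⟦(1:ℤ)⟧) W) : Inj F Y W := by
  intro f hf
  have h4 : a ≫ f = 0 := h1 _ (by rw [Functor.map_comp, hf, comp_zero])
  obtain ⟨g, rfl⟩ := yon2 hT f h4
  rw [Functor.map_comp] at hf
  obtain ⟨l, hl⟩ := yon3 (map_dist F hT) (F.map g) hf
  obtain ⟨m, hm⟩ := h1' ((cs F X).hom ≫ l)
  have h5 : g = c ≫ m := by
    rw [← sub_eq_zero]
    apply h3
    rw [Functor.map_sub, Functor.map_comp, hm, hl, sub_eq_zero, Category.assoc]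
  rw [h5, reassoc_of% (comp23 hT), zero_comp]

lemma Surj.tri_left (hT : Triangle.mk a b c ∈ distTriang C) (h1 : Surj F X W) (h3 : Surj F Z W)
    (h3' : Inj F (Z⟦(-1:ℤ)⟧) W) : Surj F Y W := by
  intro g
  obtain ⟨h, hh⟩ := h1 (F.map a ≫ g)
  obtain ⟨w, hT'⟩ := inv_rot' hT
  have h4 : w ≫ h = 0 := by
    apply h3'
    rw [Functor.map_comp, hh, ← Category.assoc, ← Functor.map_comp, comp12 hT', Functor.map_zero,
      zero_comp]
  obtain ⟨f', hf'⟩ := yon2 hT' h h4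
  obtain ⟨l, hl⟩ := yon2 (map_dist F hT) (g - F.map f') (by
    rw [Preadditive.comp_sub, ← hh, hf', Functor.map_comp, sub_self])
  obtain ⟨k, hk⟩ := h3 l
  refine ⟨f' + b ≫ k, ?_⟩
  rw [Functor.map_add, Functor.map_comp, hk, ← hl, add_sub_cancel]

lemma Inj.tri_right (hT : Triangle.mk a b c ∈ distTriang C) (h1 : Inj F W X) (h3 : Inj F W Z)
    (h3' : Surj F W (Z⟦(-1:ℤ)⟧)) : Inj F W Y := by
  intro f hf
  have h4 : f ≫ b = 0 := h3 _ (by rw [Functor.map_comp, hf, zero_comp])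
  obtain ⟨g, rfl⟩ := coyon2 hT f h4
  rw [Functor.map_comp] at hf
  obtain ⟨w, hT'⟩ := inv_rot' hT
  obtain ⟨l, hl⟩ := coyon2 (map_dist F hT') (F.map g) hf
  obtain ⟨m, hm⟩ := h3' l
  have h5 : g = m ≫ w := by
    rw [← sub_eq_zero]
    apply h1
    rw [Functor.map_sub, Functor.map_comp, hm, hl, sub_eq_zero]
  rw [h5, Category.assoc, comp12 hT', comp_zero]

lemma Surj.tri_right (hT : Triangle.mk a b c ∈ distTriang C) (h1 : Surj F W X) (h3 : Surj F W Z)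
    (h1' : Inj F W (X⟦(1:ℤ)⟧)) : Surj F W Y := by
  intro g
  obtain ⟨h, hh⟩ := h3 (g ≫ F.map b)
  have h4 : h ≫ c = 0 := by
    apply h1'
    rw [Functor.map_comp, hh, Category.assoc, ← Functor.map_comp, comp23 hT, Functor.map_zero,
      comp_zero]
  obtain ⟨f', hf'⟩ := coyon3 hT h h4
  obtain ⟨l, hl⟩ := coyon2 (map_dist F hT) (g - F.map f') (by
    rw [Preadditive.sub_comp, ← hh, hf', Functor.map_comp, sub_self])
  obtain ⟨k, hk⟩ := h1 l
  refine ⟨f' + k ≫ a, ?_⟩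
  rw [Functor.map_add, Functor.map_comp, hk, ← hl, add_sub_cancel]

end K350.FF
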