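import Groth.Agent.DEquiv.K350.Sib
import Groth.Agent.DEquiv.K350.FF

set_option autoImplicit false
set_option linter.unusedSectionVars false
universe v v' v'' u u' u''

namespace K350.Sib

open CategoryTheory CategoryTheory.Limits CategoryTheory.Pretriangulated
  CategoryTheory.Triangulated K350.HD K350.Th K350.Tri K350.FF
open scoped ZeroObject

variable {A : Type u} [Category.{v} A] [Abelian A]
  {C : Type u'} [Category.{v'} C] [Preadditive C] [HasZeroObject C] [HasShift C ℤ]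
  [∀ n : ℤ, (shiftFunctor C n).Additive] [Pretriangulated C]
  {D : Type u''} [Category.{v''} D] [Preadditive D] [HasZeroObject D] [HasShift D ℤ]
  [∀ n : ℤ, (shiftFunctor D n).Additive] [Pretriangulated D]
  {t : TStructure C} {ι : A ⥤ C} (h : HeartData t ι) {F F' : C ⥤ D} [F.CommShift ℤ]
  [F.IsTriangulated] [F'.CommShift ℤ] [F'.IsTriangulated] (τ : ι ⋙ F ≅ ι ⋙ F')

include h in
lemma negVan_of_full [F.Full] : NegVan ι F := by
  intro X Y q hq f
  let e : F.obj ((ι.obj Y)⟦q⟧) ≅ (F.obj (ι.obj Y))⟦q⟧ := (F.commShiftIso q).app (ι.obj Y)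
  obtain ⟨g, hg⟩ := F.map_surjective (f ≫ e.inv)
  have h1 := h.le0 X
  have h2 := h.ge Y q (-q) (by omega)
  have h3 : g = 0 := t.zero g 0 (-q) (by omega)
  rw [← cancel_mono e.inv, ← hg, h3, zero_comp, Functor.map_zero]

/-- The kernel triangle of an effacement. -/
lemma exists_triangle_of_epi (h : HeartData t ι) {E M : A} (p : E ⟶ M) [Epi p] (m : ℤ) :
    ∃ (K : A) (i : K ⟶ E) (δ : (ι.obj M)⟦m⟧ ⟶ (ι.obj K)⟦m⟧⟦(1:ℤ)⟧),
      Triangle.mk ((ι.map i)⟦m⟧') ((ι.map p)⟦m⟧') δ ∈ distTriang C := by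
  have hS : (ShortComplex.mk (kernel.ι p) p (kernel.condition p)).ShortExact :=
    { exact := ShortComplex.exact_of_f_is_kernel _ (kernelIsKernel p) }
  obtain ⟨δ, hδ⟩ := h.ses _ _ _ hS m
  exact ⟨_, _, δ, hδ⟩

/-- The isomorphism `(ι M)⟦m⟧⟦1⟧ ≅ (ι M)⟦m'⟧`. -/
noncomputable def shIso (M : C) (m n m' : ℤ) (hm : m + n = m') : M⟦m⟧⟦n⟧ ≅ M⟦m'⟧ :=
  ((shiftFunctorAdd' C m n m' hm).app M).symm

include h τ in
lemma step_heart [F.Full] [F.Faithful] (k : ℕ) : ∀ (M N : A) (m n : ℤ) (_ : n = m + k),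
    Inj F' ((ι.obj M)⟦m⟧) ((ι.obj N)⟦n⟧) ∧ Surj F' ((ι.obj M)⟦m⟧) ((ι.obj N)⟦n⟧) := by
  have _ := h.additive
  induction k with
  | zero =>
    intro M N m n hmn
    obtain rfl : n = m := by simpa using hmn
    constructor
    · intro f hf
      obtain ⟨g, rfl⟩ := h.map_surj n f
      apply F.map_injective
      rw [Functor.map_zero, ← cancel_mono (th τ n N).hom, th_nat, hf, comp_zero, zero_comp]
    · intro g
      obtain ⟨f, hf⟩ := F.map_surjective ((th τ n M).hom ≫ g ≫ (th τ n N).inv)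
      refine ⟨f, ?_⟩
      obtain ⟨f0, rfl⟩ := h.map_surj n f
      rw [← cancel_epi (th τ n M).hom, ← th_nat, hf]
      simp
  | succ k ih =>
    intro M N m n hmn
    have hle : t.IsLE ((ι.obj N)⟦n⟧) (-m - 1) := by
      have := h.le N n (-n) (by omega)
      exact t.isLE_of_le _ (-n) _ (by push_cast at hmn; omega)
    have ih' : ∀ M : A, Inj F' ((ι.obj M)⟦m⟧⟦(1:ℤ)⟧) ((ι.obj N)⟦n⟧) ∧
        Surj F' ((ι.obj M)⟦m⟧⟦(1:ℤ)⟧) ((ι.obj N)⟦n⟧) := by
      intro M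
      obtain ⟨h1, h2⟩ := ih M N (m + 1) n (by push_cast at hmn; omega)
      exact ⟨h1.iso (shIso _ m 1 (m + 1) rfl).symm (Iso.refl _),
        h2.iso (shIso _ m 1 (m + 1) rfl).symm (Iso.refl _)⟩
    constructor
    · intro ξ hξ
      obtain ⟨E, p, _, hp⟩ := h.eff M (-m) m (by omega) _ ξ hle
      obtain ⟨K, i, δ, hT⟩ := exists_triangle_of_epi h p m
      obtain ⟨κ, hκ⟩ := yon3 hT ξ hp
      have hT1 := rot' (rot' hT)
      have h1 : F'.map δ ≫ F'.map κ = 0 := by rw [← Functor.map_comp, ← hκ, hξ]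
      obtain ⟨l, hl⟩ := yon2 (map_dist F' hT1) (F'.map κ) h1
      obtain ⟨μ, hμ⟩ := (ih' E).2 l
      have h2 : κ = (-(((ι.map i)⟦m⟧')⟦(1:ℤ)⟧')) ≫ μ := by
        rw [← sub_eq_zero]
        apply (ih' K).1
        rw [Functor.map_sub, hl, Functor.map_comp, hμ, sub_self]
      rw [hκ, h2, ← Category.assoc, comp12 hT1, zero_comp]
    · intro η
      obtain ⟨ξ, hξ⟩ := F.map_surjective ((th τ m M).hom ≫ η ≫ (th τ n N).inv)
      obtain ⟨E, p, _, hp⟩ := h.eff M (-m) m (by omega) _ ξ hle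
      obtain ⟨K, i, δ, hT⟩ := exists_triangle_of_epi h p m
      have h1 : F'.map ((ι.map p)⟦m⟧') ≫ η = 0 := by
        rw [← cancel_epi (th τ m E).hom, ← Category.assoc, ← th_nat, comp_zero, Category.assoc,
          ← cancel_mono (th τ n N).inv, zero_comp, Category.assoc, Category.assoc, ← hξ,
          ← Functor.map_comp, hp, Functor.map_zero]
      have hT1 := rot' hT
      obtain ⟨l, hl⟩ := yon2 (map_dist F' hT1) η h1
      obtain ⟨κ, hκ⟩ := (ih' K).2 l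
      exact ⟨δ ≫ κ, by rw [Functor.map_comp, hκ, hl]⟩

include h τ in
lemma heart_heart [F.Full] [F.Faithful] (M N : A) (m n : ℤ) :
    Inj F' ((ι.obj M)⟦m⟧) ((ι.obj N)⟦n⟧) ∧ Surj F' ((ι.obj M)⟦m⟧) ((ι.obj N)⟦n⟧) := by
  by_cases hmn : m ≤ n
  · exact step_heart h τ (n - m).toNat M N m n (by omega)
  · constructor
    · intro f _
      have h1 := h.le M m (-m) (by omega)
      have h2 := h.ge N n (-n) (by omega)
      exact t.zero f (-m) (-n) (by omega)
    · intro g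
      refine ⟨0, ?_⟩
      have h1 := hom_zero τ (negVan_of_full h) M N m n (by omega) ((th τ m M).hom ≫ g)
      rw [Functor.map_zero, ← cancel_epi (th τ m M).hom, h1, comp_zero]

include h τ in
lemma left_heart [F.Full] [F.Faithful] (k : ℕ) : ∀ (b : ℤ) (X : C) (_ : t.IsGE X (b - k))
    (_ : t.IsLE X b) (N : A) (n : ℤ), Inj F' X ((ι.obj N)⟦n⟧) ∧ Surj F' X ((ι.obj N)⟦n⟧) := by
  induction k with
  | zero =>
    intro b X h1 h2 N n
    obtain ⟨M, ⟨e⟩⟩ := h.exists_iso X b (-b) (by omega) h2 (by simpa using h1)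
    have h3 := heart_heart h τ M N (-b) n
    exact ⟨h3.1.iso e (Iso.refl _), h3.2.iso e (Iso.refl _)⟩
  | succ k ih =>
    intro b X h1 h2 N n
    obtain ⟨M, Y, g, π, δ, hT, hY, hY'⟩ := dev1 h X b (-b) (by omega) h2
    have h3 := hY' (b - (k + 1 : ℕ)) (by push_cast; omega) h1
    have hYn : ∀ n : ℤ, Inj F' Y ((ι.obj N)⟦n⟧) ∧ Surj F' Y ((ι.obj N)⟦n⟧) := fun n =>
      ih (b - 1) Y (by convert h3 using 1; push_cast; omega) hY N n
    have hMn := heart_heart h τ M N (-b) n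
    have hMn1 := heart_heart h τ M N (-b + 1) n
    refine ⟨hMn.1.tri_left hT (hYn n).1
      (hMn1.2.iso (shIso _ (-b) 1 (-b + 1) rfl).symm (Iso.refl _)),
      hMn.2.tri_left hT (hYn n).2 (((hYn (n + 1)).1.shift (-1)).iso (Iso.refl _)
        (shIso _ (n + 1) (-1) n (by omega)))⟩

include h τ in
lemma left_right [F.Full] [F.Faithful] (hb : ∀ X : C, ∃ a b : ℤ, t.IsGE X a ∧ t.IsLE X b) (k : ℕ) :
    ∀ (b : ℤ) (Y : C) (_ : t.IsGE Y (b - k)) (_ : t.IsLE Y b) (X : C), Inj F' X Y ∧ Surj F' X Y := by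
  have hlh : ∀ (X : C) (N : A) (n : ℤ), Inj F' X ((ι.obj N)⟦n⟧) ∧ Surj F' X ((ι.obj N)⟦n⟧) := by
    intro X
    obtain ⟨a, b, ha, hb⟩ := hb X
    have h1 : t.IsLE X (max a b) := t.isLE_of_le X b _ (le_max_right _ _)
    exact left_heart h τ (max a b - a).toNat (max a b) X (by convert ha using 1; omega) h1
  induction k with
  | zero =>
    intro b Y h1 h2 X
    obtain ⟨M, ⟨e⟩⟩ := h.exists_iso Y b (-b) (by omega) h2 (by simpa using h1)
    have h3 := hlh X M (-b)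
    exact ⟨h3.1.iso (Iso.refl _) e, h3.2.iso (Iso.refl _) e⟩
  | succ k ih =>
    intro b Y h1 h2 X
    obtain ⟨M, Y', g, π, δ, hT, hY, hY'⟩ := dev1 h Y b (-b) (by omega) h2
    have h3 := hY' (b - (k + 1 : ℕ)) (by push_cast; omega) h1
    have hYn : ∀ X : C, Inj F' X Y' ∧ Surj F' X Y' := fun X =>
      ih (b - 1) Y' (by convert h3 using 1; push_cast; omega) hY X
    have hMn := hlh X M (-b)
    have hMn1 := hlh X M (-b + 1)
    refine ⟨hMn.1.tri_right hT (hYn X).1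
      (((hYn (X⟦(1:ℤ)⟧)).2.shift (-1)).iso ((shiftFunctorCompIsoId C (1:ℤ) (-1) (by omega)).app X)
        (Iso.refl _)),
      hMn.2.tri_right hT (hYn X).2
        (hMn1.1.iso (Iso.refl _) (shIso _ (-b) 1 (-b + 1) rfl).symm)⟩

include h τ in
theorem sibling_fullyFaithful [F.Full] [F.Faithful]
    (hb : ∀ X : C, ∃ a b : ℤ, t.IsGE X a ∧ t.IsLE X b) : F'.Full ∧ F'.Faithful := by
  have key : ∀ X Y : C, Inj F' X Y ∧ Surj F' X Y := by
    intro X Y
    obtain ⟨a, b, ha, hb'⟩ := hb Y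
    have h1 : t.IsLE Y (max a b) := t.isLE_of_le Y b _ (le_max_right _ _)
    exact left_right h τ hb (max a b - a).toNat (max a b) Y (by convert ha using 1; omega) h1 X
  refine ⟨⟨fun {X Y} g => (key X Y).2 g⟩, ⟨fun {X Y} f g hfg => ?_⟩⟩
  rw [← sub_eq_zero]
  apply (key X Y).1
  rw [Functor.map_sub, hfg, sub_self]

end K350.Sib
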