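import Mathlib.Data.Countable.Basic
import Mathlib.Data.Set.Countable
import Groth.Agent.DEquiv.K350.SibFF

set_option autoImplicit false
set_option linter.unusedSectionVars false
universe v v' v'' u u' u''

namespace K350.Cnt

open CategoryTheory CategoryTheory.Limits CategoryTheory.Pretriangulated
  CategoryTheory.Triangulated K350.HD K350.Th K350.Tri K350.FF K350.Sib
open scoped ZeroObject

lemma countable_of_exact {A B C : Type*} [AddCommGroup A] [AddCommGroup B] [AddCommGroup C]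
    (f : A →+ B) (g : B →+ C) (h : ∀ b, g b = 0 → ∃ a, f a = b) [Countable A] [Countable C] :
    Countable B := by
  classical
  let σ : C → B := fun c => if hc : ∃ b, g b = c then hc.choose else 0
  have hσ : ∀ b, g (σ (g b)) = g b := by
    intro b
    have hc : ∃ b', g b' = g b := ⟨b, rfl⟩
    have : σ (g b) = hc.choose := dif_pos hc
    rw [this]
    exact hc.choose_spec
  have hs : Function.Surjective (fun p : A × C => f p.1 + σ p.2) := by
    intro b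
    obtain ⟨a, ha⟩ := h (b - σ (g b)) (by rw [map_sub, hσ, sub_self])
    exact ⟨(a, g b), by simp [ha]⟩
  exact hs.countable

variable {A : Type u} [Category.{v} A] [Abelian A]
  {C : Type u'} [Category.{v'} C] [Preadditive C] [HasZeroObject C] [HasShift C ℤ]
  [∀ n : ℤ, (shiftFunctor C n).Additive] [Pretriangulated C]
  {t : TStructure C} {ι : A ⥤ C} (h : HeartData t ι)

lemma countable_of_iso {X Y X' Y' : C} (e : X ≅ X') (e' : Y ≅ Y') (hc : Countable (X ⟶ Y)) :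
    Countable (X' ⟶ Y') := by
  have hs : Function.Surjective (fun f : X ⟶ Y => e.inv ≫ f ≫ e'.hom) := by
    intro g
    exact ⟨e.hom ≫ g ≫ e'.inv, by simp⟩
  exact hs.countable

lemma countable_shift {X Y : C} (hc : Countable (X ⟶ Y)) (n : ℤ) : Countable (X⟦n⟧ ⟶ Y⟦n⟧) := by
  have hs : Function.Surjective (fun f : X ⟶ Y => f⟦n⟧') := (shiftFunctor C n).map_surjective
  exact hs.countable

include h in
lemma cnt_heart (hhom : ∀ X Y : A, Countable (X ⟶ Y))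
    (e : ℕ → A) (he : ∀ X : A, ∃ n : ℕ, Nonempty (X ≅ e n)) (k : ℕ) :
    ∀ (M N : A) (m n : ℤ) (_ : n = m + k), Countable ((ι.obj M)⟦m⟧ ⟶ (ι.obj N)⟦n⟧) := by
  induction k with
  | zero =>
    intro M N m n hmn
    obtain rfl : n = m := by simpa using hmn
    have := hhom M N
    have hs : Function.Surjective (fun f : M ⟶ N => (ι.map f)⟦n⟧') := h.map_surj n
    exact hs.countable
  | succ k ih =>
    intro M N m n hmn
    have hle : t.IsLE ((ι.obj N)⟦n⟧) (-m - 1) := by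
      have := h.le N n (-n) (by omega)
      exact t.isLE_of_le _ (-n) _ (by push_cast at hmn; omega)
    have hc : ∀ (i : ℕ) (p : {p : e i ⟶ M // Epi p}), ∃ (K : A) (δ : (ι.obj M)⟦m⟧ ⟶
      (ι.obj K)⟦m⟧⟦(1:ℤ)⟧), ∀ ξ : (ι.obj M)⟦m⟧ ⟶ (ι.obj N)⟦n⟧, (ι.map p.1)⟦m⟧' ≫ ξ = 0 →
        ∃ κ : (ι.obj K)⟦m⟧⟦(1:ℤ)⟧ ⟶ (ι.obj N)⟦n⟧, δ ≫ κ = ξ := by
      intro i p
      have := p.2
      obtain ⟨K, i, δ, hT⟩ := exists_triangle_of_epi h p.1 m
      refine ⟨K, δ, fun ξ hξ => ?_⟩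
      obtain ⟨κ, hκ⟩ := yon3 hT ξ hξ
      exact ⟨κ, hκ.symm⟩
    choose K δ hδ using hc
    have hcc : ∀ (i : ℕ) (p : {p : e i ⟶ M // Epi p}),
        Countable ((ι.obj (K i p))⟦m⟧⟦(1:ℤ)⟧ ⟶ (ι.obj N)⟦n⟧) := fun i p =>
      countable_of_iso (shIso _ m 1 (m + 1) rfl).symm (Iso.refl _)
        (ih (K i p) N (m + 1) n (by push_cast at hmn; omega))
    have : ∀ i, Countable {p : e i ⟶ M // Epi p} := fun i => by
      have := hhom (e i) M
      infer_instance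
    have hs : Function.Surjective (fun x : Σ (i : ℕ) (p : {p : e i ⟶ M // Epi p}),
        ((ι.obj (K i p))⟦m⟧⟦(1:ℤ)⟧ ⟶ (ι.obj N)⟦n⟧) => δ x.1 x.2.1 ≫ x.2.2) := by
      intro ξ
      obtain ⟨E, p, hp, hpξ⟩ := h.eff M (-m) m (by omega) _ ξ hle
      obtain ⟨i, ⟨ei⟩⟩ := he E
      obtain ⟨κ, hκ⟩ := hδ i ⟨ei.inv ≫ p, epi_comp' inferInstance hp⟩ ξ (by
        rw [Functor.map_comp, Functor.map_comp, Category.assoc, hpξ, comp_zero])
      exact ⟨⟨i, ⟨ei.inv ≫ p, epi_comp' inferInstance hp⟩, κ⟩, hκ⟩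
    exact hs.countable

include h in
lemma cnt_heart' (hhom : ∀ X Y : A, Countable (X ⟶ Y))
    (e : ℕ → A) (he : ∀ X : A, ∃ n : ℕ, Nonempty (X ≅ e n)) (M N : A) (m n : ℤ) :
    Countable ((ι.obj M)⟦m⟧ ⟶ (ι.obj N)⟦n⟧) := by
  by_cases hmn : m ≤ n
  · exact cnt_heart h hhom e he (n - m).toNat M N m n (by omega)
  · have h1 := h.le M m (-m) (by omega)
    have h2 := h.ge N n (-n) (by omega)
    have : Subsingleton ((ι.obj M)⟦m⟧ ⟶ (ι.obj N)⟦n⟧) := ⟨fun f g => by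
      rw [t.zero f (-m) (-n) (by omega), t.zero g (-m) (-n) (by omega)]⟩
    infer_instance

include h in
lemma cnt_left (hhom : ∀ X Y : A, Countable (X ⟶ Y))
    (e : ℕ → A) (he : ∀ X : A, ∃ n : ℕ, Nonempty (X ≅ e n)) (k : ℕ) :
    ∀ (b : ℤ) (X : C) (_ : t.IsGE X (b - k))
    (_ : t.IsLE X b) (N : A) (n : ℤ), Countable (X ⟶ (ι.obj N)⟦n⟧) := by
  induction k with
  | zero =>
    intro b X h1 h2 N n
    obtain ⟨M, ⟨e'⟩⟩ := h.exists_iso X b (-b) (by omega) h2 (by simpa using h1)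
    exact countable_of_iso e' (Iso.refl _) (cnt_heart' h hhom e he M N (-b) n)
  | succ k ih =>
    intro b X h1 h2 N n
    obtain ⟨M, Y, g, π, δ, hT, hY, hY'⟩ := dev1 h X b (-b) (by omega) h2
    have h3 := hY' (b - (k + 1 : ℕ)) (by push_cast; omega) h1
    have h4 := ih (b - 1) Y (by convert h3 using 1; push_cast; omega) hY N n
    have h5 := cnt_heart' h hhom e he M N (-b) n
    refine countable_of_exact (Preadditive.leftComp _ π) (Preadditive.leftComp _ g)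
      (fun f hf => ?_)
    obtain ⟨f', hf'⟩ := yon2 hT f hf
    exact ⟨f', hf'.symm⟩

include h in
lemma cnt_hom (hb : ∀ X : C, ∃ a b : ℤ, t.IsGE X a ∧ t.IsLE X b)
    (hhom : ∀ X Y : A, Countable (X ⟶ Y))
    (e : ℕ → A) (he : ∀ X : A, ∃ n : ℕ, Nonempty (X ≅ e n)) (k : ℕ) :
    ∀ (b : ℤ) (Y : C) (_ : t.IsGE Y (b - k))
    (_ : t.IsLE Y b) (X : C), Countable (X ⟶ Y) := by
  have hlh : ∀ (X : C) (N : A) (n : ℤ), Countable (X ⟶ (ι.obj N)⟦n⟧) := by
    intro X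
    obtain ⟨a, b, ha, hb⟩ := hb X
    have h1 : t.IsLE X (max a b) := t.isLE_of_le X b _ (le_max_right _ _)
    exact cnt_left h hhom e he (max a b - a).toNat (max a b) X (by convert ha using 1; omega) h1
  induction k with
  | zero =>
    intro b Y h1 h2 X
    obtain ⟨M, ⟨e'⟩⟩ := h.exists_iso Y b (-b) (by omega) h2 (by simpa using h1)
    exact countable_of_iso (Iso.refl _) e' (hlh X M (-b))
  | succ k ih =>
    intro b Y h1 h2 X
    obtain ⟨M, Y', g, π, δ, hT, hY, hY'⟩ := dev1 h Y b (-b) (by omega) h2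
    have h3 := hY' (b - (k + 1 : ℕ)) (by push_cast; omega) h1
    have h4 := ih (b - 1) Y' (by convert h3 using 1; push_cast; omega) hY X
    have h5 := hlh X M (-b)
    refine countable_of_exact (Preadditive.rightComp _ g) (Preadditive.rightComp _ π)
      (fun f hf => ?_)
    obtain ⟨f', hf'⟩ := coyon2 hT f hf
    exact ⟨f', hf'.symm⟩

/-- Countably many isomorphism classes of objects satisfying `P`. -/
def CI (P : C → Prop) : Prop := ∃ e : ℕ → C, ∀ X, P X → ∃ n : ℕ, Nonempty (X ≅ e n)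

lemma CI.mk' {T : Type*} [Countable T] {P : C → Prop} (c : T → C)
    (hc : ∀ X, P X → ∃ i : T, Nonempty (X ≅ c i)) : CI P := by
  by_cases hT : Nonempty T
  · obtain ⟨f, hf⟩ := exists_surjective_nat T
    refine ⟨fun n => c (f n), fun X hX => ?_⟩
    obtain ⟨i, hi⟩ := hc X hX
    obtain ⟨n, rfl⟩ := hf i
    exact ⟨n, hi⟩
  · refine ⟨fun _ => 0, fun X hX => ?_⟩
    obtain ⟨i, _⟩ := hc X hX
    exact absurd ⟨i⟩ hT

include h in
lemma cnt_obj (hb : ∀ X : C, ∃ a b : ℤ, t.IsGE X a ∧ t.IsLE X b)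
    (hhom : ∀ X Y : A, Countable (X ⟶ Y))
    (e : ℕ → A) (he : ∀ X : A, ∃ n : ℕ, Nonempty (X ≅ e n)) (k : ℕ) :
    ∀ (b : ℤ), CI (fun X : C => t.IsGE X (b - k) ∧ t.IsLE X b) := by
  have hall : ∀ X Y : C, Countable (X ⟶ Y) := by
    intro X Y
    obtain ⟨a, b, ha, hb'⟩ := hb Y
    have h1 : t.IsLE Y (max a b) := t.isLE_of_le Y b _ (le_max_right _ _)
    exact cnt_hom h hb hhom e he (max a b - a).toNat (max a b) Y (by convert ha using 1; omega) h1 X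
  induction k with
  | zero =>
    intro b
    refine ⟨fun n => (ι.obj (e n))⟦-b⟧, ?_⟩
    rintro X ⟨h1, h2⟩
    obtain ⟨M, ⟨e'⟩⟩ := h.exists_iso X b (-b) (by omega) h2 (by simpa using h1)
    obtain ⟨n, ⟨e''⟩⟩ := he M
    exact ⟨n, ⟨e'.symm ≪≫ (shiftFunctor C (-b)).mapIso (ι.mapIso e'')⟩⟩
  | succ k ih =>
    intro b
    obtain ⟨y, hy⟩ := ih (b - 1)
    have hc : ∀ (i j : ℕ) (δ : y j ⟶ (ι.obj (e i))⟦-b⟧⟦(1:ℤ)⟧), ∃ (W : C)
      (g : (ι.obj (e i))⟦-b⟧ ⟶ W) (π : W ⟶ y j), Triangle.mk g π δ ∈ distTriang C := fun i j δ => by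
        obtain ⟨W, g, π, hT⟩ := distinguished_cocone_triangle₂ δ
        exact ⟨W, g, π, hT⟩
    choose W gW πW hW using hc
    refine CI.mk' (T := Σ (i j : ℕ), (y j ⟶ (ι.obj (e i))⟦-b⟧⟦(1:ℤ)⟧))
      (fun x => W x.1 x.2.1 x.2.2) ?_
    rintro X ⟨h1, h2⟩
    obtain ⟨M, Y, g, π, δ, hT, hY, hY'⟩ := dev1 h X b (-b) (by omega) h2
    have h3 := hY' (b - (k + 1 : ℕ)) (by push_cast; omega) h1
    obtain ⟨j, ⟨ej⟩⟩ := hy Y ⟨by convert h3 using 1; push_cast; omega, hY⟩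
    obtain ⟨i, ⟨ei⟩⟩ := he M
    let ei' : (ι.obj M)⟦-b⟧ ≅ (ι.obj (e i))⟦-b⟧ := (shiftFunctor C (-b)).mapIso (ι.mapIso ei)
    let δ' : y j ⟶ (ι.obj (e i))⟦-b⟧⟦(1:ℤ)⟧ := ej.inv ≫ δ ≫ ei'.hom⟦(1:ℤ)⟧'
    obtain ⟨φ, -, -, hφ⟩ := tr3₂_iso hT (hW i j δ') ei'.hom ej.hom (by simp [δ']) inferInstance
      inferInstance
    exact ⟨⟨i, j, δ'⟩, ⟨asIso φ⟩⟩

include h in
theorem cnt_all (hb : ∀ X : C, ∃ a b : ℤ, t.IsGE X a ∧ t.IsLE X b)
    (hhom : ∀ X Y : A, Countable (X ⟶ Y))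
    (e : ℕ → A) (he : ∀ X : A, ∃ n : ℕ, Nonempty (X ≅ e n)) :
    (∀ X Y : C, Countable (X ⟶ Y)) ∧ ∃ e : ℕ → C, ∀ X : C, ∃ n : ℕ, Nonempty (X ≅ e n) := by
  constructor
  · intro X Y
    obtain ⟨a, b, ha, hb'⟩ := hb Y
    have h1 : t.IsLE Y (max a b) := t.isLE_of_le Y b _ (le_max_right _ _)
    exact cnt_hom h hb hhom e he (max a b - a).toNat (max a b) Y (by convert ha using 1; omega) h1 X
  · choose y hy using fun (k : ℕ) (b : ℤ) => cnt_obj h hb hhom e he k b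
    obtain ⟨e', he'⟩ := CI.mk' (P := fun _ : C => True) (T := ℕ × ℤ × ℕ)
      (fun x => y x.1 x.2.1 x.2.2) (by
        intro X _
        obtain ⟨a, b, ha, hb'⟩ := hb X
        have h1 : t.IsLE X (max a b) := t.isLE_of_le X b _ (le_max_right _ _)
        obtain ⟨n, hn⟩ := hy (max a b - a).toNat (max a b) X ⟨by convert ha using 1; omega, h1⟩
        exact ⟨⟨_, _, n⟩, hn⟩)
    exact ⟨e', fun X => he' X trivial⟩

end K350.Cnt
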