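import Groth.Agent.S1005
import Groth.Agent.S1006
import Groth.Agent.S0820
import Groth.Agent.Fdesc.StructMod
import Groth.Agent.PerfA.QCohD
import Groth.Agent.CohqB.DevSupport
import Groth.Agent.Ega3B.Devissage
import Groth.Prelude.Def_SGA6
import Groth.Prelude.Def_KLin
import Groth.Prelude.Def_Models

/-!
# Exact autoequivalences of the perfect derived category of a regular scheme fixing point sheaves
are t-exact
-/

set_option autoImplicit false
universe u

open CategoryTheory CategoryTheory.Limits AlgebraicGeometry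
attribute [local instance] HasDerivedCategory.standard

namespace K350.CohAut

open DerivedCategory

variable {X : Scheme.{u}}

/-- The point sheaf. -/
noncomputable abbrev kap (x : X) : X.Modules :=
  (Coh.push (X.fromSpecResidueField x)).obj (Coh.structureModule _)

lemma isClosedImmersion_of (x : X) (hx : IsClosed ({x} : Set X)) :
    IsClosedImmersion (X.fromSpecResidueField x) :=
  isClosed_singleton_iff_isClosedImmersion.1 hx

lemma isCoh_kap [IsLocallyNoetherian X] (x : X) (hx : IsClosed ({x} : Set X)) :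
    Coh.IsCoh (kap x) := by
  have := isClosedImmersion_of x hx
  exact Groth.Agent.S0019.result _ _ (Groth.Agent.Fdesc.StructMod.isCoh_structureModule _)

lemma support_kap (x : X) (hx : IsClosed ({x} : Set X)) : CohB1.support (kap x) = {x} := by
  have := isClosedImmersion_of x hx
  have h := Groth.Agent.S0820.support_eq (X.fromSpecResidueField x)
    (X.fromSpecResidueField x).isClosedEmbedding.isClosed_range
  rw [Scheme.range_fromSpecResidueField] at h
  exact h

variable [IsNoetherian X] (hreg : Models.IsRegularScheme X)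

include hreg in
lemma perf_of (K : DCoh.D X) (h : DCoh.IsCohD K) (a b : ℤ) (ha : K.IsGE a) (hb : K.IsLE b) :
    DCoh.IsPerfect K := Groth.Agent.S1005.result X hreg K a b h

include hreg in
lemma perf_inD (M : X.Modules) (hM : Coh.IsCoh M) : DCoh.IsPerfect (DCoh.inD X M) :=
  perf_of hreg _ (Groth.Agent.PerfA.QCohD.isCohD_inD M hM) 0 0 inferInstance inferInstance

/-- The hypothesis provided by `S6719`. -/
def PtTest (X : Scheme.{u}) : Prop :=
  ∀ (x : X), IsClosed ({x} : Set X) → ∀ (K : DCoh.D X), DCoh.IsCohD K → ∀ (a c : ℤ), K.IsGE a →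
    K.IsLE c → ∀ b : ℤ, (∀ i : ℤ, b < i → x ∉ CohB1.support (DCoh.HD K i)) ↔
      ∀ i : ℤ, b < i → ∀ φ : K ⟶ (shiftFunctor (DCoh.D X) (-i)).obj (DCoh.inD X (kap x)), φ = 0

/-- The closed point test for `≤ b`. -/
lemma isLE_iff_test (hT : PtTest X) (K : DCoh.D X) (hK : DCoh.IsPerfect K) (b : ℤ) :
    K.IsLE b ↔ ∀ x : X, IsClosed ({x} : Set X) → ∀ i : ℤ, b < i →
      ∀ φ : K ⟶ (shiftFunctor (DCoh.D X) (-i)).obj (DCoh.inD X (kap x)), φ = 0 := by
  obtain ⟨hc, a, c, ha, hcc⟩ := Groth.Agent.S1006.result X K hK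
  constructor
  · intro h x hx i hi
    refine (hT x hx K hc a c ha hcc b).1 (fun j hj => ?_) i hi
    have := isZero_of_isLE K b j hj
    rw [Groth.Agent.CohqB.DevSupport.support_eq_empty_of_isZero this]
    simp
  · intro h
    rw [isLE_iff]
    intro i hi
    apply Groth.Agent.CohqB.DevSupport.isZero_of_support_eq_empty
    by_contra hne
    obtain ⟨x, hx, hxc⟩ := IsClosed.exists_closed_singleton
      (Groth.Agent.Ega3B.Devissage.isClosed_support (hc i)) (Set.nonempty_iff_ne_empty.2 hne)
    exact (hT x hxc K hc a c ha hcc b).2 (h x hxc) i hi hx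

/-- The truncation `τ_{< b} K` of a perfect object is perfect on a regular scheme. -/
lemma perf_truncLT (hreg : Models.IsRegularScheme X) (K : DCoh.D X) (hK : DCoh.IsPerfect K)
    (b : ℤ) : DCoh.IsPerfect ((TStructure.t.truncLT b).obj K) := by
  obtain ⟨hc, a, c, ha, hcc⟩ := Groth.Agent.S1006.result X K hK
  have h1 : ((TStructure.t.truncLT b).obj K).IsGE a := by
    rw [isGE_iff]
    intro i hi
    by_cases h : i < b
    · have := Groth.Agent.CohtopB.DTrunc.isIso_homology_map_truncLTι K b i h
      exact (isZero_of_isGE K a i hi).of_iso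
        (asIso ((homologyFunctor X.Modules i).map ((TStructure.t.truncLTι b).app K)))
    · exact isZero_of_isLE _ (b - 1) i (by omega)
  exact perf_of hreg _ (Groth.Agent.PerfA.QCohD.isCohD_truncLT hc b) a (b - 1) h1 inferInstance

/-- Orthogonality test for `≥ b` inside the category of perfect objects. -/
lemma isGE_iff_test (hreg : Models.IsRegularScheme X) (K : DCoh.D X) (hK : DCoh.IsPerfect K)
    (b : ℤ) : K.IsGE b ↔ ∀ L : DCoh.D X, DCoh.IsPerfect L → L.IsLE (b - 1) →
      ∀ φ : L ⟶ K, φ = 0 := by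
  constructor
  · intro h L _ hL φ
    exact TStructure.t.zero φ (b - 1) b (by omega)
  · intro h
    have h0 := h _ (perf_truncLT hreg K hK b) inferInstance ((TStructure.t.truncLTι b).app K)
    have h1 : 𝟙 ((TStructure.t.truncLT b).obj K) = 0 := by
      apply TStructure.t.to_truncLT_obj_ext
      rw [h0, comp_zero, comp_zero]
    rw [show K.IsGE b ↔ _ from TStructure.t.isGE_iff_isZero_truncLT_obj b K]
    exact (IsZero.iff_id_eq_zero _).2 h1

section Functor

variable [(SGA6.perfP X).IsTriangulated]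
variable (F : (SGA6.perfP X).FullSubcategory ⥤ (SGA6.perfP X).FullSubcategory)
  [F.CommShift ℤ]

/-- the point sheaf as a perfect object. -/
noncomputable abbrev kapP (hreg : Models.IsRegularScheme X) (x : X) (hx : IsClosed ({x} : Set X)) :
    (SGA6.perfP X).FullSubcategory := ⟨DCoh.inD X (kap x), perf_inD hreg _ (isCoh_kap x hx)⟩

lemma isLE_iff_test' (hT : PtTest X) (hreg : Models.IsRegularScheme X)
    (K : (SGA6.perfP X).FullSubcategory) (b : ℤ) :
    K.obj.IsLE b ↔ ∀ (x : X) (hx : IsClosed ({x} : Set X)) (i : ℤ), b < i →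
      ∀ φ : K ⟶ (kapP hreg x hx)⟦-i⟧, φ = 0 := by
  rw [isLE_iff_test hT K.obj K.property b]
  refine forall_congr' fun x => forall_congr' fun hx => forall_congr' fun i =>
    forall_congr' fun hi => ?_
  let e := ((SGA6.perfP X).ι.commShiftIso (-i)).app (kapP hreg x hx)
  constructor
  · intro h φ
    apply (SGA6.perfP X).ι.map_injective
    rw [← cancel_mono e.hom, (SGA6.perfP X).ι.map_zero, zero_comp]
    exact h _
  · intro h φ
    have h1 := h ((SGA6.perfP X).ι.preimage (φ ≫ e.inv))
    have h2 := congrArg (SGA6.perfP X).ι.map h1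
    rw [Functor.map_preimage, Functor.map_zero] at h2
    rw [← cancel_mono e.inv, h2, zero_comp]

variable (hT : PtTest X) (hreg : Models.IsRegularScheme X)
  (hF : ∀ (x : X) (hx : IsClosed ({x} : Set X)), Nonempty (kapP hreg x hx ≅ F.obj (kapP hreg x hx)))

include hT hF in
lemma isLE_obj_iff [F.Additive] [F.Full] [F.Faithful] (K : (SGA6.perfP X).FullSubcategory) (b : ℤ) :
    (F.obj K).obj.IsLE b ↔ K.obj.IsLE b := by
  rw [isLE_iff_test' hT hreg, isLE_iff_test' hT hreg]
  refine forall_congr' fun x => forall_congr' fun hx => forall_congr' fun i =>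
    forall_congr' fun hi => ?_
  obtain ⟨e₀⟩ := hF x hx
  let e : F.obj ((kapP hreg x hx)⟦-i⟧) ≅ (kapP hreg x hx)⟦-i⟧ :=
    (F.commShiftIso (-i)).app _ ≪≫ (shiftFunctor _ (-i)).mapIso e₀.symm
  constructor
  · intro h φ
    apply F.map_injective
    rw [← cancel_mono e.hom, F.map_zero, zero_comp]
    exact h _
  · intro h φ
    have h1 := h (F.preimage (φ ≫ e.inv))
    have h2 := congrArg F.map h1
    rw [Functor.map_preimage, Functor.map_zero] at h2
    rw [← cancel_mono e.inv, h2, zero_comp]

lemma isGE_iff_test' (hreg : Models.IsRegularScheme X) (K : (SGA6.perfP X).FullSubcategory)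
    (b : ℤ) : K.obj.IsGE b ↔ ∀ L : (SGA6.perfP X).FullSubcategory, L.obj.IsLE (b - 1) →
      ∀ φ : L ⟶ K, φ = 0 := by
  rw [isGE_iff_test hreg K.obj K.property]
  constructor
  · intro h L hL φ
    apply (SGA6.perfP X).ι.map_injective
    rw [(SGA6.perfP X).ι.map_zero]
    exact h L.obj L.property hL _
  · intro h L hL hL' φ
    have h1 := h ⟨L, hL⟩ hL' ((SGA6.perfP X).ι.preimage φ)
    have h2 := congrArg (SGA6.perfP X).ι.map h1
    rw [Functor.map_preimage, Functor.map_zero] at h2
    exact h2

include hT hF in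
lemma isGE_obj_iff [F.Additive] [F.Full] [F.Faithful] [F.EssSurj]
    (K : (SGA6.perfP X).FullSubcategory) (b : ℤ) :
    (F.obj K).obj.IsGE b ↔ K.obj.IsGE b := by
  rw [isGE_iff_test' hreg, isGE_iff_test' hreg]
  constructor
  · intro h L hL φ
    apply F.map_injective
    rw [F.map_zero]
    exact h _ ((isLE_obj_iff F hT hreg hF L _).2 hL) _
  · intro h L hL φ
    let e := F.objObjPreimageIso L
    have h3 : (F.objPreimage L).obj.IsLE (b - 1) := by
      rw [← isLE_obj_iff F hT hreg hF]
      have : TStructure.t.IsLE ((SGA6.perfP X).ι.obj L) (b - 1) := hL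
      exact (TStructure.t.isLE_of_iso ((SGA6.perfP X).ι.mapIso e.symm) (b - 1))
    have h1 := h (F.objPreimage L) h3 (F.preimage (e.hom ≫ φ))
    have h2 := congrArg F.map h1
    rw [Functor.map_preimage, Functor.map_zero] at h2
    rw [← cancel_epi e.hom, h2, comp_zero]

/-- The property of being coherent. -/
abbrev cohP (X : Scheme.{u}) : ObjectProperty X.Modules := fun M => Coh.IsCoh M

/-- Coherent modules in degree zero, as perfect complexes. -/
noncomputable def incl (hreg : Models.IsRegularScheme X) :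
    (cohP X).FullSubcategory ⥤ (SGA6.perfP X).FullSubcategory :=
  (SGA6.perfP X).lift ((cohP X).ι ⋙ singleFunctor X.Modules 0)
    (fun M => perf_inD hreg M.obj M.property)

instance : (incl hreg).Full := by unfold incl; infer_instance
instance : (incl hreg).Faithful := by unfold incl; infer_instance

/-- The embedding of coherent modules into the derived category. -/
noncomputable abbrev cohT (X : Scheme.{u}) : (cohP X).FullSubcategory ⥤ DCoh.D X :=
  (cohP X).ι ⋙ singleFunctor X.Modules 0

set_option linter.unusedSectionVars false in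
lemma exists_iso_inD (K : DCoh.D X) (hK : DCoh.IsCohD K) (h1 : K.IsLE 0) (h2 : K.IsGE 0) :
    (cohT X).essImage K := by
  refine ⟨⟨DCoh.HD K 0, hK 0⟩, ?_⟩
  obtain ⟨M, ⟨e⟩⟩ := K.exists_iso_singleFunctor_obj_of_isGE_of_isLE 0
  have e2 : DCoh.HD K 0 ≅ M := (homologyFunctor X.Modules 0).mapIso e ≪≫
    (singleFunctorCompHomologyFunctorIso X.Modules 0).app M
  exact ⟨(singleFunctor X.Modules 0).mapIso e2 ≪≫ e.symm⟩

include hT hF in
lemma essImage_obj [F.Additive] [F.Full] [F.Faithful] [F.EssSurj]
    (M : (cohP X).FullSubcategory) :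
    (cohT X).essImage ((incl hreg ⋙ F ⋙ (SGA6.perfP X).ι).obj M) := by
  apply exists_iso_inD
  · exact (Groth.Agent.S1006.result X _ (F.obj ((incl hreg).obj M)).property).1
  · refine (isLE_obj_iff F hT hreg hF ((incl hreg).obj M) 0).2 ?_
    exact (inferInstance : ((singleFunctor X.Modules 0).obj M.obj).IsLE 0)
  · refine (isGE_obj_iff F hT hreg hF ((incl hreg).obj M) 0).2 ?_
    exact (inferInstance : ((singleFunctor X.Modules 0).obj M.obj).IsGE 0)

include hT hF in
/-- An exact autoequivalence of perfect complexes fixing point sheaves restricts to an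
autoequivalence of the category of coherent modules. -/
theorem exists_equivalence [F.Additive] [F.Full] [F.Faithful] [F.EssSurj] :
    ∃ (G : (cohP X).FullSubcategory ≌ (cohP X).FullSubcategory),
      Nonempty (G.functor ⋙ cohT X ≅ incl hreg ⋙ F ⋙ (SGA6.perfP X).ι) := by
  let G := Functor.essImage.liftFunctor (incl hreg ⋙ F ⋙ (SGA6.perfP X).ι) (cohT X)
    (essImage_obj F hT hreg hF)
  let α : G ⋙ cohT X ≅ incl hreg ⋙ F ⋙ (SGA6.perfP X).ι :=
    Functor.essImage.liftFunctorCompIso _ _ _
  have h1 : (G ⋙ cohT X).Full := Functor.Full.of_iso α.symm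
  have h2 : (G ⋙ cohT X).Faithful := Functor.Faithful.of_iso α.symm
  have h3 : G.Full := Functor.Full.of_comp_faithful G (cohT X)
  have h4 : G.Faithful := Functor.Faithful.of_comp G (cohT X)
  have h5 : G.EssSurj := ⟨fun N => by
    let e := F.objObjPreimageIso ((incl hreg).obj N)
    set L := F.objPreimage ((incl hreg).obj N)
    have hL1 : L.obj.IsLE 0 := by
      rw [← isLE_obj_iff F hT hreg hF]
      have : TStructure.t.IsLE ((SGA6.perfP X).ι.obj ((incl hreg).obj N)) 0 :=
        inferInstanceAs (((singleFunctor X.Modules 0).obj N.obj).IsLE 0)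
      exact TStructure.t.isLE_of_iso ((SGA6.perfP X).ι.mapIso e.symm) 0
    have hL2 : L.obj.IsGE 0 := by
      rw [← isGE_obj_iff F hT hreg hF]
      have : TStructure.t.IsGE ((SGA6.perfP X).ι.obj ((incl hreg).obj N)) 0 :=
        inferInstanceAs (((singleFunctor X.Modules 0).obj N.obj).IsGE 0)
      exact TStructure.t.isGE_of_iso ((SGA6.perfP X).ι.mapIso e.symm) 0
    obtain ⟨M, ⟨e1⟩⟩ := exists_iso_inD L.obj (Groth.Agent.S1006.result X _ L.property).1 hL1 hL2
    let e2 : (incl hreg).obj M ≅ L := (SGA6.perfP X).isoMk e1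
    refine ⟨M, ⟨(cohT X).preimageIso (α.app M ≪≫ (SGA6.perfP X).ι.mapIso (F.mapIso e2 ≪≫ e))⟩⟩⟩
  have h6 : G.IsEquivalence := {}
  exact ⟨G.asEquivalence, ⟨α⟩⟩

end Functor

end K350.CohAut
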