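import Groth.Agent.DEquiv.K350.CohAut
import Groth.Agent.Ega1.SuppTensorMod
import Groth.Agent.Ega1.PullFormal
import Groth.Agent.Ega3B.TensorAUnit
import Groth.Agent.CurvesC.DualSetup
import Groth.Agent.FormalA.Support
import Groth.Agent.FormalA.PullbackQC
import Groth.Agent.Fdesc.LocGenTensor
import Groth.Agent.PerfB.LimModInv
import Groth.Agent.CycB.DegCurve
import Mathlib.AlgebraicGeometry.Morphisms.FiniteType

/-!
# Conclusion: autoequivalences fixing zero-dimensional coherent modules
-/

set_option autoImplicit false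
universe u

open CategoryTheory CategoryTheory.Limits AlgebraicGeometry
attribute [local instance] HasDerivedCategory.standard

namespace K350.CohAut

open DerivedCategory

section Mul

variable {X : Scheme.{u}}

theorem tensorRightMod_map_smulModΓ (F G : X.Modules) (r : Coh.Γtop X) :
    (DCoh.tensorRightMod F).map (Formal.smulModΓ G r) =
      Formal.smulModΓ ((DCoh.tensorRightMod F).obj G) r := by
  refine Groth.Agent.Ega2.Tens.hom_ext (M := G) (N := F) _ _ fun U m n => ?_
  refine (Groth.Agent.Ega3B.TensorAUnit.tensorRightMod_map_tmul F (Formal.smulModΓ G r) m n).trans ?_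
  rw [KLin.smulModΓ_app_apply, Groth.Agent.Ega2.Tens.smul_tmul]
  exact (KLin.smulModΓ_app_apply _ _ _ _).symm

theorem eq_of_smulModΓ_eq {L : X.Modules} (hL : PicF.IsInvertible L) (r s : Coh.Γtop X)
    (h : Formal.smulModΓ L r = Formal.smulModΓ L s) : r = s := by
  rw [← sub_eq_zero]
  refine Groth.Agent.CurvesC.DualSetup.eq_zero_of_smul hL (U := ⊤) (r - s) fun V hV m => ?_
  have h1 := congrArg (fun φ => φ.app V m) h
  simp only [KLin.smulModΓ_app_apply] at h1
  have h3 : (X.presheaf.map (homOfLE hV).op).hom (show Γ(X, ⊤) from r - s) =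
      (X.presheaf.map (homOfLE hV).op).hom (show Γ(X, ⊤) from r) -
        (X.presheaf.map (homOfLE hV).op).hom (show Γ(X, ⊤) from s) := map_sub _ _ _
  have h2 : ((X.presheaf.map (homOfLE hV).op).hom (show Γ(X, ⊤) from r - s) : Γ(X, V)) • m = 0 := by
    rw [h3, sub_smul, sub_eq_zero]
    exact h1
  exact h2

end Mul

section Points

variable {X : Scheme.{u}}

theorem base_eq_of_closed [JacobsonSpace X] (f : X ≅ X)
    (h : ∀ x : X, IsClosed ({x} : Set X) → f.hom.base x = x) (x : X) : f.hom.base x = x := by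
  let e : X ≃ₜ X := Scheme.homeoOfIso f
  have he : ∀ y, e y = f.hom.base y := fun y => rfl
  have hZ : IsClosed (closure ({x} : Set X)) := isClosed_closure
  have h1 : e '' closure {x} = closure {x} := by
    have h2 := JacobsonSpace.closure_inter_closedPoints hZ
    have h3 : e '' (closure {x} ∩ closedPoints X) = closure {x} ∩ closedPoints X := by
      ext y
      constructor
      · rintro ⟨z, hz, rfl⟩
        rw [he, h z hz.2]
        exact hz
      · intro hy
        exact ⟨y, hy, by rw [he, h y hy.2]⟩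
    calc e '' closure {x} = e '' closure (closure {x} ∩ closedPoints X) := by rw [h2]
      _ = closure (e '' (closure {x} ∩ closedPoints X)) := e.image_closure _
      _ = closure (closure {x} ∩ closedPoints X) := by rw [h3]
      _ = closure {x} := h2
  rw [e.image_closure, Set.image_singleton, he] at h1
  have h4 : Inseparable (f.hom.base x) x := inseparable_iff_closure_eq.2 h1
  exact h4.eq

end Points

section Main

theorem isInvertible_structureModule (T : Scheme.{u}) :
    PicF.IsInvertible (Coh.structureModule T) :=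
  (Groth.Agent.Fdesc.LocGen.isInvertible_iff _).2 fun _ ↦
    ⟨⊤, Groth.Agent.Fdesc.LocGen.one ⊤, trivial, Groth.Agent.Fdesc.LocGen.isGen_one ⊤⟩

lemma isNoetherian_of_proper (k : Type u) [Field k] (X : Scheme.{u}) [X.Over (Spec (.of k))]
    [IsProper (X ↘ Spec (.of k))] : AlgebraicGeometry.IsNoetherian X := by
  have h1 : IsLocallyNoetherian X :=
    LocallyOfFiniteType.isLocallyNoetherian (X ↘ Spec (.of k))
  have h2 : CompactSpace X := QuasiCompact.compactSpace_of_compactSpace (X ↘ Spec (.of k))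
  exact {}

lemma jacobson_of_proper (k : Type u) [Field k] (X : Scheme.{u}) [X.Over (Spec (.of k))]
    [IsProper (X ↘ Spec (.of k))] : JacobsonSpace X :=
  LocallyOfFiniteType.jacobsonSpace (X ↘ Spec (.of k))

variable (k : Type u) [Field k] {X : Scheme.{u}} [X.Over (Spec (.of k))]
  [IsProper (X ↘ Spec (.of k))] [AlgebraicGeometry.IsNoetherian X]
  (hreg : Models.IsRegularScheme X) [(SGA6.perfP X).IsTriangulated]
  (F : (SGA6.perfP X).FullSubcategory ⥤ (SGA6.perfP X).FullSubcategory) [F.Additive] [F.Linear k]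
  [F.CommShift ℤ]

instance : ((singleFunctor X.Modules 0)).Linear k := inferInstance

set_option linter.unusedSectionVars false in
/-- Scalars act on the transported functor by scalars. -/
lemma map_smul_id (G : (cohP X).FullSubcategory ⥤ (cohP X).FullSubcategory)
    (α : G ⋙ cohT X ≅ incl hreg ⋙ F ⋙ (SGA6.perfP X).ι) (M : (cohP X).FullSubcategory) (a : k) :
    G.map (a • 𝟙 M) = a • 𝟙 (G.obj M) := by
  apply (cohT X).map_injective
  have h1 := α.hom.naturality (a • 𝟙 M)
  have h2 : (incl hreg ⋙ F ⋙ (SGA6.perfP X).ι).map (a • 𝟙 M) =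
      a • 𝟙 ((incl hreg ⋙ F ⋙ (SGA6.perfP X).ι).obj M) := by
    have h3 : (incl hreg).map (a • 𝟙 M) = a • 𝟙 ((incl hreg).obj M) := by
      apply (SGA6.perfP X).ι.map_injective
      change (singleFunctor X.Modules 0).map (a • 𝟙 M.obj) = a • 𝟙 _
      rw [CategoryTheory.Functor.map_smul, CategoryTheory.Functor.map_id]
      rfl
    rw [Functor.comp_map, Functor.comp_map, h3, CategoryTheory.Functor.map_smul,
      CategoryTheory.Functor.map_smul, CategoryTheory.Functor.map_id,
      CategoryTheory.Functor.map_id]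
    rfl
  rw [h2, Linear.comp_smul, Category.comp_id] at h1
  rw [← cancel_mono (α.hom.app M)]
  change (G ⋙ cohT X).map (a • 𝟙 M) ≫ α.hom.app M = _
  rw [h1]
  have h4 : (cohT X).map (a • 𝟙 (G.obj M)) = a • 𝟙 ((cohT X).obj (G.obj M)) := by
    change (singleFunctor X.Modules 0).map (a • 𝟙 (G.obj M).obj) = a • 𝟙 _
    rw [CategoryTheory.Functor.map_smul, CategoryTheory.Functor.map_id]
    rfl
  rw [h4, Linear.smul_comp, Category.id_comp]

include hreg in
/-- The main theorem, relative to the inputs `S6719` and `S6724`. -/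
theorem main [F.Full] [F.Faithful] [F.EssSurj] (hT : PtTest X)
    (h : ∀ (M : X.Modules), Coh.IsCoh M → (CohB1.support M).Finite → (CohB1.support M).Nonempty →
        (∀ x ∈ CohB1.support M, IsClosed ({x} : Set X)) →
        ∀ (hM : DCoh.IsPerfect (DCoh.inD X M)),
          Nonempty ((⟨DCoh.inD X M, hM⟩ : (SGA6.perfP X).FullSubcategory) ≅ F.obj ⟨DCoh.inD X M, hM⟩))
    (hrec : ∀ G : (cohP X).FullSubcategory ≌ (cohP X).FullSubcategory,
      ∃ (f : X ≅ X) (L : X.Modules), PicF.IsInvertible L ∧
        Nonempty (G.functor ⋙ (cohP X).ι ≅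
          (cohP X).ι ⋙ Scheme.Modules.pullback f.hom ⋙ DCoh.tensorRightMod L)) :
    ∃ (f : X ≅ X) (_ : f.hom ≫ (X ↘ Spec (.of k)) = X ↘ Spec (.of k)) (_ : ∀ x : X, f.hom.base x = x)
      (L : X.Modules) (_ : PicF.IsInvertible L)
      (e : ∀ (M : X.Modules), Coh.IsCoh M → ∀ (hM : DCoh.IsPerfect (DCoh.inD X M)),
        (F.obj ⟨DCoh.inD X M, hM⟩).obj ≅ DCoh.inD X ((Scheme.Modules.pullback f.hom ⋙ DCoh.tensorRightMod L).obj M)),
      ∀ (M N : X.Modules) (hcM : Coh.IsCoh M) (hcN : Coh.IsCoh N)
        (hM : DCoh.IsPerfect (DCoh.inD X M)) (hN : DCoh.IsPerfect (DCoh.inD X N)) (φ : M ⟶ N),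
        (F.map (ObjectProperty.homMk ((DerivedCategory.singleFunctor X.Modules 0).map φ) :
            (⟨DCoh.inD X M, hM⟩ : (SGA6.perfP X).FullSubcategory) ⟶ ⟨DCoh.inD X N, hN⟩)).hom ≫ (e N hcN hN).hom =
          (e M hcM hM).hom ≫ (DerivedCategory.singleFunctor X.Modules 0).map ((Scheme.Modules.pullback f.hom ⋙ DCoh.tensorRightMod L).map φ) := by
  have hF : ∀ (x : X) (hx : IsClosed ({x} : Set X)),
      Nonempty (kapP hreg x hx ≅ F.obj (kapP hreg x hx)) := by
    intro x hx
    refine h (kap x) (isCoh_kap x hx) ?_ ?_ ?_ _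
    · rw [support_kap x hx]; exact Set.finite_singleton x
    · rw [support_kap x hx]; exact Set.singleton_nonempty x
    · rw [support_kap x hx]
      rintro y rfl
      exact hx
  obtain ⟨G, ⟨α⟩⟩ := exists_equivalence F hT hreg hF
  obtain ⟨f, L, hL, ⟨β⟩⟩ := hrec G
  let γ : incl hreg ⋙ F ⋙ (SGA6.perfP X).ι ≅
      ((cohP X).ι ⋙ Scheme.Modules.pullback f.hom ⋙ DCoh.tensorRightMod L) ⋙
        singleFunctor X.Modules 0 :=
    α.symm ≪≫ Functor.isoWhiskerRight β (singleFunctor X.Modules 0)
  have hJ := jacobson_of_proper k X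
  have hLc : Coh.IsCoh L := Groth.Agent.CycB.DegCurve.isCoh_of_isInvertible hL
  have hpt : ∀ x : X, IsClosed ({x} : Set X) → f.hom.base x = x := by
    intro x hx
    obtain ⟨e₀⟩ := hF x hx
    let K : (cohP X).FullSubcategory := ⟨kap x, isCoh_kap x hx⟩
    have e1 : (singleFunctor X.Modules 0).obj (kap x) ≅
        (singleFunctor X.Modules 0).obj ((Scheme.Modules.pullback f.hom ⋙
          DCoh.tensorRightMod L).obj (kap x)) :=
      (SGA6.perfP X).ι.mapIso e₀ ≪≫ γ.app K
    have e2 := (singleFunctor X.Modules 0).preimageIso e1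
    have h1 : x ∈ CohB1.support (kap x) := by rw [support_kap x hx]; rfl
    have h2 : x ∈ CohB1.support (CohB1.tensorMod ((Scheme.Modules.pullback f.hom).obj (kap x)) L) :=
      Groth.Agent.FormalA.Support.support_eq_of_iso e2 ▸ h1
    have h3 := (Groth.Agent.Ega1.SuppTensorMod.mem_support_tensorMod _ _
      (Groth.Agent.FormalA.PullbackQC.isCoh_pullback f.hom _ (isCoh_kap x hx)).2 hLc.2 x).1 h2
    have h4 := (Groth.Agent.Ega1.SuppTensorMod.mem_support_pullback f.hom (kap x)
      (isCoh_kap x hx).2 x).1 h3.1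
    rw [support_kap x hx] at h4
    exact h4
  refine ⟨f, ?_, base_eq_of_closed f hpt, L, hL, fun M hcM hM => γ.app ⟨M, hcM⟩, ?_⟩
  · -- linearity over `k`
    let O : (cohP X).FullSubcategory := ⟨Coh.structureModule X,
      Groth.Agent.Fdesc.StructMod.isCoh_structureModule X⟩
    have hinv : PicF.IsInvertible ((Scheme.Modules.pullback f.hom ⋙
        DCoh.tensorRightMod L).obj (Coh.structureModule X)) := by
      exact Groth.Agent.Fdesc.LocGen.isInvertible_tensorMod
        (Groth.Agent.PerfB.LimMod.isInvertible_pullback f.hom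
          (isInvertible_structureModule X)) hL
    have key : ∀ a : k, Coh.toGlobal (X ↘ Spec (.of k)) a =
        f.hom.appTop.hom (Coh.toGlobal (X ↘ Spec (.of k)) a) := by
      intro a
      apply eq_of_smulModΓ_eq hinv
      have h1 := β.hom.naturality (a • 𝟙 O)
      have h2 : (G.functor ⋙ (cohP X).ι).map (a • 𝟙 O) = a • 𝟙 (G.functor.obj O).obj := by
        rw [Functor.comp_map, map_smul_id k hreg F G.functor α O a]
        rfl
      rw [h2] at h1
      have h3 : ((cohP X).ι ⋙ Scheme.Modules.pullback f.hom ⋙ DCoh.tensorRightMod L).map (a • 𝟙 O) =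
          Formal.smulModΓ _ (f.hom.appTop.hom (Coh.toGlobal (X ↘ Spec (.of k)) a)) := by
        change (DCoh.tensorRightMod L).map ((Scheme.Modules.pullback f.hom).map
          (a • 𝟙 (Coh.structureModule X))) = _
        rw [KLin.smul_id]
        change (DCoh.tensorRightMod L).map ((Scheme.Modules.pullback f.hom).map
          (Formal.smulModΓ _ _)) = _
        rw [Groth.Agent.Ega1.PullFormal.pullback_smulModΓ, tensorRightMod_map_smulModΓ]
        rfl
      rw [h3] at h1
      have h4 : (a • 𝟙 (G.functor.obj O).obj) ≫ β.hom.app O =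
          β.hom.app O ≫ Formal.smulModΓ _ (Coh.toGlobal (X ↘ Spec (.of k)) a) := by
        rw [KLin.smul_id, KLin.comp_smulModΓ]
        rfl
      exact (cancel_epi (β.hom.app O)).1 (h4.symm.trans h1)
    apply ext_of_isAffine
    ext b
    have hb := key ((Scheme.ΓSpecIso (.of k)).hom b)
    have hb' : (Scheme.ΓSpecIso (.of k)).inv ((Scheme.ΓSpecIso (.of k)).hom b) = b := by simp
    change (X ↘ Spec (.of k)).appTop ((Scheme.ΓSpecIso (.of k)).inv
      ((Scheme.ΓSpecIso (.of k)).hom b)) = f.hom.appTop ((X ↘ Spec (.of k)).appTop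
        ((Scheme.ΓSpecIso (.of k)).inv ((Scheme.ΓSpecIso (.of k)).hom b))) at hb
    rw [hb'] at hb
    rw [Scheme.Hom.comp_appTop]
    exact hb.symm
  · intro M N hcM hcN hM hN φ
    exact γ.hom.naturality (ObjectProperty.homMk φ :
      (⟨M, hcM⟩ : (cohP X).FullSubcategory) ⟶ ⟨N, hcN⟩)

end Main

end K350.CohAut
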