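import Mathlib.Algebra.Homology.DerivedCategory.TStructure
import Mathlib.Algebra.Homology.DerivedCategory.FullyFaithful
import Mathlib.Algebra.Homology.DerivedCategory.SingleTriangle

set_option autoImplicit false
universe w v u

namespace K350.Db

open CategoryTheory CategoryTheory.Limits CategoryTheory.Pretriangulated

variable {A : Type u} [Category.{v} A] [Abelian A]

/-- The stupid map `K^b[-b] ⟶ K` for a complex `K` strictly `≤ b`. -/
lemma epi_homologyMap_fromSingle (K : CochainComplex A ℤ) (b : ℤ) [K.IsStrictlyLE b] :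
    Epi (HomologicalComplex.homologyMap
      (HomologicalComplex.mkHomFromSingle (j := b) (𝟙 (K.X b)) (fun k _ =>
        (K.isZero_of_isStrictlyLE b k (by
          have : b + 1 = k := by assumption
          omega)).eq_of_tgt _ _)) b) := by
  set φ := HomologicalComplex.mkHomFromSingle (K := K) (j := b) (𝟙 (K.X b)) (fun k _ =>
        (K.isZero_of_isStrictlyLE b k (by
          have : b + 1 = k := by assumption
          omega)).eq_of_tgt _ _) with hφ
  have hd : K.d b (b + 1) = 0 := (K.isZero_of_isStrictlyLE b (b + 1) (by omega)).eq_of_tgt _ _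
  have h1 : IsIso (K.iCycles b) := K.isIso_iCycles b (b + 1) (by simp) hd
  have h2 : IsIso ((((HomologicalComplex.single A (ComplexShape.up ℤ) b).obj (K.X b))).iCycles b) :=
    HomologicalComplex.isIso_iCycles _ b (b + 1) (by simp) (by simp)
  have h3 : IsIso (φ.f b) := by
    rw [hφ, HomologicalComplex.mkHomFromSingle_f]
    infer_instance
  have h4 : IsIso (HomologicalComplex.cyclesMap φ b) := by
    have h5 := HomologicalComplex.cyclesMap_i φ b
    have h6 : HomologicalComplex.cyclesMap φ b =
      (((HomologicalComplex.single A (ComplexShape.up ℤ) b).obj (K.X b))).iCycles b ≫ φ.f b ≫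
        inv (K.iCycles b) := by
      rw [← Category.assoc, ← h5, Category.assoc, IsIso.hom_inv_id, Category.comp_id]
    rw [h6]
    infer_instance
  have h7 := HomologicalComplex.homologyπ_naturality φ b
  have h8 : Epi ((((HomologicalComplex.single A (ComplexShape.up ℤ) b).obj (K.X b))).homologyπ b ≫
    HomologicalComplex.homologyMap φ b) := by
    rw [h7]
    infer_instance
  exact epi_of_epi ((((HomologicalComplex.single A (ComplexShape.up ℤ) b).obj (K.X b))).homologyπ b) _

variable [HasDerivedCategory.{w} A]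

lemma exists_single_map (K L : CochainComplex A ℤ) (b b' : ℤ) (hb : b' < b) [K.IsStrictlyLE b]
    [L.IsStrictlyLE b'] (g : K ⟶ L) :
    ∃ (N : A) (S : CochainComplex A ℤ) (_ : (DerivedCategory.singleFunctor A b).obj N ≅
      DerivedCategory.Q.obj S) (φ : S ⟶ K), Epi (HomologicalComplex.homologyMap φ b) ∧
        φ ≫ g = 0 := by
  refine ⟨K.X b, (CochainComplex.singleFunctor A b).obj (K.X b),
    (DerivedCategory.singleFunctorIsoCompQ A b).app (K.X b),
    HomologicalComplex.mkHomFromSingle (K := K) (j := b) (𝟙 (K.X b)) (fun k _ =>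
        (K.isZero_of_isStrictlyLE b k (by
          have : b + 1 = k := by assumption
          omega)).eq_of_tgt _ _), epi_homologyMap_fromSingle K b, ?_⟩
  apply HomologicalComplex.from_single_hom_ext
  exact (L.isZero_of_isStrictlyLE b' b hb).eq_of_tgt _ _

lemma epi_homologyFunctor_Q_map {S K : CochainComplex A ℤ} (φ : S ⟶ K) (b : ℤ)
    [Epi (HomologicalComplex.homologyMap φ b)] :
    Epi ((DerivedCategory.homologyFunctor A b).map (DerivedCategory.Q.map φ)) := by
  have h := DerivedCategory.homologyFunctorFactors_hom_naturality φ b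
  have h2 : Epi ((DerivedCategory.homologyFunctor A b).map (DerivedCategory.Q.map φ) ≫
    (DerivedCategory.homologyFunctorFactors A b).hom.app K) := by
    rw [h]
    exact epi_comp' inferInstance (by assumption)
  have h3 := epi_comp ((DerivedCategory.homologyFunctor A b).map (DerivedCategory.Q.map φ) ≫
    (DerivedCategory.homologyFunctorFactors A b).hom.app K)
      ((DerivedCategory.homologyFunctorFactors A b).inv.app K)
  rw [Category.assoc, Iso.hom_inv_id_app] at h3
  change Epi ((DerivedCategory.homologyFunctor A b).map (DerivedCategory.Q.map φ) ≫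
    𝟙 ((DerivedCategory.homologyFunctor A b).obj (DerivedCategory.Q.obj K))) at h3
  rwa [Category.comp_id] at h3

/-- For `f : X ⟶ Z` in `D(A)` with `X` in degrees `≤ b` and `Z` in degrees `< b` there is a map
`N[-b] ⟶ X` which is an epimorphism on `H^b` and is killed by `f`. -/
lemma exists_single_epi_comp_zero (X Z : DerivedCategory A) (f : X ⟶ Z) (b b' : ℤ) (hb : b' < b)
    [X.IsLE b] [Z.IsLE b'] :
    ∃ (N : A) (g : (DerivedCategory.singleFunctor A b).obj N ⟶ X),
      Epi ((DerivedCategory.homologyFunctor A b).map g) ∧ g ≫ f = 0 := by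
  obtain ⟨K, _, ⟨e⟩⟩ := X.exists_iso_Q_obj_of_isLE b
  obtain ⟨L, _, ⟨e'⟩⟩ := Z.exists_iso_Q_obj_of_isLE b'
  obtain ⟨K', _, s, _, g, hg⟩ := DerivedCategory.right_fac_of_isStrictlyLE (e.inv ≫ f ≫ e'.hom) b
  obtain ⟨N, S, u, φ, hφ, hφg⟩ := exists_single_map K' L b b' hb g
  refine ⟨N, u.hom ≫ DerivedCategory.Q.map φ ≫ DerivedCategory.Q.map s ≫ e.inv, ?_, ?_⟩
  · have h1 := epi_homologyFunctor_Q_map φ b
    rw [Functor.map_comp, Functor.map_comp]
    exact epi_comp' inferInstance (epi_comp' h1 inferInstance)
  · have h1 : DerivedCategory.Q.map s ≫ e.inv ≫ f ≫ e'.hom = DerivedCategory.Q.map g := by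
      rw [hg, IsIso.hom_inv_id_assoc]
    rw [← cancel_mono e'.hom]
    simp only [Category.assoc, zero_comp]
    rw [h1, ← Functor.map_comp, hφg, Functor.map_zero, comp_zero]

/-- An abelian category has enough negative objects. -/
def EnoughNeg (A : Type u) [Category.{v} A] [Abelian A] : Prop :=
  ∀ X : A, ∃ (N : A) (p : N ⟶ X), Epi p ∧ ∀ f : X ⟶ N, f = 0

/-- Same as `exists_single_epi_comp_zero` with `N` negative with respect to `H^b(X)` and a given
object `M`. -/
lemma exists_single_epi_comp_zero_neg (hneg : EnoughNeg A)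
    (X Z : DerivedCategory A) (f : X ⟶ Z) (b b' : ℤ) (hb : b' < b)
    [X.IsLE b] [Z.IsLE b'] (M : A) :
    ∃ (N : A) (g : (DerivedCategory.singleFunctor A b).obj N ⟶ X),
      Epi ((DerivedCategory.homologyFunctor A b).map g) ∧ g ≫ f = 0 ∧
      (∀ φ : (DerivedCategory.homologyFunctor A b).obj X ⟶ N, φ = 0) ∧
      (∀ φ : M ⟶ N, φ = 0) := by
  obtain ⟨N, g, hg, hgf⟩ := exists_single_epi_comp_zero X Z f b b' hb
  obtain ⟨N', p, hp, hN'⟩ := hneg (N ⊞ ((DerivedCategory.homologyFunctor A b).obj X ⊞ M))
  refine ⟨N', (DerivedCategory.singleFunctor A b).map (p ≫ biprod.fst) ≫ g, ?_, ?_, ?_, ?_⟩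
  · rw [Functor.map_comp]
    have h1 : Epi (p ≫ (biprod.fst : N ⊞ ((DerivedCategory.homologyFunctor A b).obj X ⊞ M) ⟶ N)) :=
      epi_comp' hp inferInstance
    have h2 : Epi ((DerivedCategory.homologyFunctor A b).map
        ((DerivedCategory.singleFunctor A b).map (p ≫ (biprod.fst :
          N ⊞ ((DerivedCategory.homologyFunctor A b).obj X ⊞ M) ⟶ N)))) := by
      have h3 := (DerivedCategory.singleFunctorCompHomologyFunctorIso A b).hom.naturality
        (p ≫ (biprod.fst : N ⊞ ((DerivedCategory.homologyFunctor A b).obj X ⊞ M) ⟶ N))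
      have h4 : Epi ((DerivedCategory.singleFunctor A b ⋙ DerivedCategory.homologyFunctor A b).map
        (p ≫ (biprod.fst : N ⊞ ((DerivedCategory.homologyFunctor A b).obj X ⊞ M) ⟶ N)) ≫
          (DerivedCategory.singleFunctorCompHomologyFunctorIso A b).hom.app N) := by
        rw [h3]
        exact epi_comp' inferInstance h1
      have h5 := epi_comp' h4 (show Epi ((DerivedCategory.singleFunctorCompHomologyFunctorIso
        A b).inv.app N) from inferInstance)
      rwa [Category.assoc, Iso.hom_inv_id_app, Category.comp_id] at h5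
    exact epi_comp' h2 hg
  · rw [Category.assoc, hgf, comp_zero]
  · intro φ
    have := hN' (biprod.snd ≫ biprod.fst ≫ φ)
    rw [← cancel_epi (biprod.fst : (DerivedCategory.homologyFunctor A b).obj X ⊞ M ⟶ _),
      ← cancel_epi (biprod.snd : N ⊞ ((DerivedCategory.homologyFunctor A b).obj X ⊞ M) ⟶ _), this]
    simp
  · intro φ
    have := hN' (biprod.snd ≫ biprod.snd ≫ φ)
    rw [← cancel_epi (biprod.snd : (DerivedCategory.homologyFunctor A b).obj X ⊞ M ⟶ _),
      ← cancel_epi (biprod.snd : N ⊞ ((DerivedCategory.homologyFunctor A b).obj X ⊞ M) ⟶ _), this]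
    simp

end K350.Db
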