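import Groth.Agent.DEquiv.K350.Tri

set_option autoImplicit false
universe v v' u u'

namespace K350.Tri

open CategoryTheory CategoryTheory.Limits CategoryTheory.Pretriangulated

variable {D : Type u} [Category.{v} D] [Preadditive D] [HasZeroObject D] [HasShift D ℤ]
    [∀ n : ℤ, (shiftFunctor D n).Additive] [Pretriangulated D]
  {X Y Z W : D} {a : X ⟶ Y} {b : Y ⟶ Z} {c : Z ⟶ X⟦(1 : ℤ)⟧}

lemma yon2 (hT : Triangle.mk a b c ∈ distTriang D) (f : Y ⟶ W) (hf : a ≫ f = 0) :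
    ∃ g : Z ⟶ W, f = b ≫ g := Triangle.yoneda_exact₂ _ hT f hf

lemma yon3 (hT : Triangle.mk a b c ∈ distTriang D) (f : Z ⟶ W) (hf : b ≫ f = 0) :
    ∃ g : X⟦(1:ℤ)⟧ ⟶ W, f = c ≫ g := Triangle.yoneda_exact₃ _ hT f hf

lemma coyon2 (hT : Triangle.mk a b c ∈ distTriang D) (f : W ⟶ Y) (hf : f ≫ b = 0) :
    ∃ g : W ⟶ X, f = g ≫ a := Triangle.coyoneda_exact₂ _ hT f hf

lemma coyon3 (hT : Triangle.mk a b c ∈ distTriang D) (f : W ⟶ Z) (hf : f ≫ c = 0) :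
    ∃ g : W ⟶ Y, f = g ≫ b := Triangle.coyoneda_exact₃ _ hT f hf

lemma coyon1 (hT : Triangle.mk a b c ∈ distTriang D) (f : W ⟶ X⟦(1:ℤ)⟧) (hf : f ≫ a⟦(1:ℤ)⟧' = 0) :
    ∃ g : W ⟶ Z, f = g ≫ c := Triangle.coyoneda_exact₁ _ hT f hf

lemma comp12 (hT : Triangle.mk a b c ∈ distTriang D) : a ≫ b = 0 := comp_distTriang_mor_zero₁₂ _ hT

lemma comp23 (hT : Triangle.mk a b c ∈ distTriang D) : b ≫ c = 0 := comp_distTriang_mor_zero₂₃ _ hT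

lemma comp31 (hT : Triangle.mk a b c ∈ distTriang D) : c ≫ a⟦(1:ℤ)⟧' = 0 :=
  comp_distTriang_mor_zero₃₁ _ hT

/-- TR3, completing on the first object. -/
lemma tr3₁ (hT : Triangle.mk a b c ∈ distTriang D) {X' Y' Z' : D} {a' : X' ⟶ Y'} {b' : Y' ⟶ Z'}
    {c' : Z' ⟶ X'⟦(1 : ℤ)⟧} (hT' : Triangle.mk a' b' c' ∈ distTriang D) (y : Y ⟶ Y') (z : Z ⟶ Z')
    (h : b ≫ z = y ≫ b') : ∃ x : X ⟶ X', a ≫ y = x ≫ a' ∧ c ≫ x⟦(1:ℤ)⟧' = z ≫ c' :=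
  complete_distinguished_triangle_morphism₁ _ _ hT hT' y z h

/-- TR3, completing on the second object. -/
lemma tr3₂ (hT : Triangle.mk a b c ∈ distTriang D) {X' Y' Z' : D} {a' : X' ⟶ Y'} {b' : Y' ⟶ Z'}
    {c' : Z' ⟶ X'⟦(1 : ℤ)⟧} (hT' : Triangle.mk a' b' c' ∈ distTriang D) (x : X ⟶ X') (z : Z ⟶ Z')
    (h : c ≫ x⟦(1:ℤ)⟧' = z ≫ c') : ∃ y : Y ⟶ Y', a ≫ y = x ≫ a' ∧ b ≫ z = y ≫ b' :=
  complete_distinguished_triangle_morphism₂ _ _ hT hT' x z h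

/-- TR3, completing on the third object. -/
lemma tr3₃ (hT : Triangle.mk a b c ∈ distTriang D) {X' Y' Z' : D} {a' : X' ⟶ Y'} {b' : Y' ⟶ Z'}
    {c' : Z' ⟶ X'⟦(1 : ℤ)⟧} (hT' : Triangle.mk a' b' c' ∈ distTriang D) (x : X ⟶ X') (y : Y ⟶ Y')
    (h : a ≫ y = x ≫ a') : ∃ z : Z ⟶ Z', b ≫ z = y ≫ b' ∧ c ≫ x⟦(1:ℤ)⟧' = z ≫ c' :=
  complete_distinguished_triangle_morphism _ _ hT hT' x y h

/-- Completing on the second object with isomorphisms. -/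
lemma tr3₂_iso (hT : Triangle.mk a b c ∈ distTriang D) {X' Y' Z' : D} {a' : X' ⟶ Y'} {b' : Y' ⟶ Z'}
    {c' : Z' ⟶ X'⟦(1 : ℤ)⟧} (hT' : Triangle.mk a' b' c' ∈ distTriang D) (x : X ⟶ X') (z : Z ⟶ Z')
    (h : c ≫ x⟦(1:ℤ)⟧' = z ≫ c') (hx : IsIso x) (hz : IsIso z) :
    ∃ y : Y ⟶ Y', a ≫ y = x ≫ a' ∧ b ≫ z = y ≫ b' ∧ IsIso y := by
  obtain ⟨y, h1, h2⟩ := tr3₂ hT hT' x z h
  refine ⟨y, h1, h2, ?_⟩
  exact isIso₂_of_isIso₁₃ (T := Triangle.mk a b c) (T' := Triangle.mk a' b' c')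
    { hom₁ := x, hom₂ := y, hom₃ := z, comm₁ := h1, comm₂ := h2, comm₃ := h } hT hT' hx hz

/-- The commutation isomorphism `F(X⟦1⟧) ≅ (F X)⟦1⟧`. -/
noncomputable def cs {D : Type u} [Category.{v} D] [HasShift D ℤ]
    {D' : Type u'} [Category.{v'} D'] [HasShift D' ℤ]
    (F : D ⥤ D') [F.CommShift ℤ] (X : D) : F.obj (X⟦(1:ℤ)⟧) ≅ (F.obj X)⟦(1:ℤ)⟧ :=
  (F.commShiftIso (1:ℤ)).app X

lemma cs_nat {D : Type u} [Category.{v} D] [HasShift D ℤ]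
    {D' : Type u'} [Category.{v'} D'] [HasShift D' ℤ]
    (F : D ⥤ D') [F.CommShift ℤ] {X Y : D} (f : X ⟶ Y) :
    F.map (f⟦(1:ℤ)⟧') ≫ (cs F Y).hom = (cs F X).hom ≫ (F.map f)⟦(1:ℤ)⟧' :=
  (F.commShiftIso (1:ℤ)).hom.naturality f

/-- The image of a distinguished triangle. -/
lemma map_dist {D' : Type u'} [Category.{v'} D'] [Preadditive D'] [HasZeroObject D'] [HasShift D' ℤ]
    [∀ n : ℤ, (shiftFunctor D' n).Additive] [Pretriangulated D'] (F : D ⥤ D') [F.CommShift ℤ]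
    [F.IsTriangulated] (hT : Triangle.mk a b c ∈ distTriang D) :
    Triangle.mk (F.map a) (F.map b) (F.map c ≫ (cs F X).hom) ∈ distTriang D' :=
  F.map_distinguished _ hT

lemma rot' (hT : Triangle.mk a b c ∈ distTriang D) : Triangle.mk b c (-a⟦(1:ℤ)⟧') ∈ distTriang D :=
  rot_of_distTriang _ hT

lemma inv_rot' (hT : Triangle.mk a b c ∈ distTriang D) : ∃ w : Z⟦(-1:ℤ)⟧ ⟶ X,
    Triangle.mk w a (b ≫ (shiftFunctorCompIsoId D (-1:ℤ) 1 (by omega)).inv.app Z) ∈ distTriang D :=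
  ⟨_, inv_rot_of_distTriang _ hT⟩

end K350.Tri
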