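import Mathlib.CategoryTheory.Triangulated.TStructure.TruncLTGE
import Mathlib.Algebra.Homology.ShortComplex.ShortExact
import Groth.Agent.DEquiv.K350.Tri2

set_option autoImplicit false
universe v v' u u'

namespace K350.HD

open CategoryTheory CategoryTheory.Limits CategoryTheory.Pretriangulated
  CategoryTheory.Triangulated

variable {A : Type u} [Category.{v} A] [Abelian A]
  {C : Type u'} [Category.{v'} C] [Preadditive C] [HasZeroObject C] [HasShift C ℤ]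
  [∀ n : ℤ, (shiftFunctor C n).Additive] [Pretriangulated C]

/-- `ι : A ⥤ C` is the inclusion of the heart of a t-structure on `C` such that maps from the heart
to objects in negative degrees are effaceable. -/
structure HeartData (t : TStructure C) (ι : A ⥤ C) : Prop where
  additive : ι.Additive
  full : ι.Full
  faithful : ι.Faithful
  le0 : ∀ M, t.IsLE (ι.obj M) 0
  ge0 : ∀ M, t.IsGE (ι.obj M) 0
  exists_iso0 : ∀ X, t.IsLE X 0 → t.IsGE X 0 → ∃ M, Nonempty (X ≅ ι.obj M)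
  dev0 : ∀ (P : A → Prop) (_ : ∀ N₀, ∃ (N : A) (p : N ⟶ N₀), Epi p ∧ P N) (X Z : C) (q : X ⟶ Z)
    (_ : t.IsLE X 0) (_ : t.IsLE Z (-1)), ∃ (N : A) (Y : C) (g : ι.obj N ⟶ X) (π : X ⟶ Y)
      (δ : Y ⟶ (ι.obj N)⟦(1:ℤ)⟧), Triangle.mk g π δ ∈ distTriang C ∧ t.IsLE Y (-1) ∧ P N ∧
        g ≫ q = 0
  ses0 : ∀ {K E M : A} (i : K ⟶ E) (p : E ⟶ M) (w : i ≫ p = 0),
    (ShortComplex.mk i p w).ShortExact → ∃ δ : ι.obj M ⟶ (ι.obj K)⟦(1:ℤ)⟧,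
      Triangle.mk (ι.map i) (ι.map p) δ ∈ distTriang C

variable {t : TStructure C} {ι : A ⥤ C}

namespace HeartData

lemma le (h : HeartData t ι) (M : A) (m b : ℤ) (hbm : b + m = 0) : t.IsLE ((ι.obj M)⟦m⟧) b := by
  have := h.le0 M
  exact t.isLE_shift _ 0 m b (by omega)

lemma ge (h : HeartData t ι) (M : A) (m b : ℤ) (hbm : b + m = 0) : t.IsGE ((ι.obj M)⟦m⟧) b := by
  have := h.ge0 M
  exact t.isGE_shift _ 0 m b (by omega)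

lemma exists_iso (h : HeartData t ι) (X : C) (b m : ℤ) (hbm : b + m = 0)
    (h1 : t.IsLE X b) (h2 : t.IsGE X b) :
    ∃ M, Nonempty ((ι.obj M)⟦m⟧ ≅ X) := by
  have h3 : t.IsLE (X⟦b⟧) 0 := t.isLE_shift _ b b 0 (by omega)
  have h4 : t.IsGE (X⟦b⟧) 0 := t.isGE_shift _ b b 0 (by omega)
  obtain ⟨M, ⟨e⟩⟩ := h.exists_iso0 _ h3 h4
  exact ⟨M, ⟨(shiftFunctor C m).mapIso e.symm ≪≫ (shiftFunctorCompIsoId C b m hbm).app X⟩⟩

/-- The basic devissage step. -/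
lemma dev (h : HeartData t ι) (P : A → Prop)
    (hP : ∀ N₀, ∃ (N : A) (p : N ⟶ N₀), Epi p ∧ P N) (X Z : C) (q : X ⟶ Z) (b m : ℤ)
    (hbm : b + m = 0)
    (hX : t.IsLE X b) (hZ : t.IsLE Z (b - 1)) :
    ∃ (N : A) (Y : C) (g : (ι.obj N)⟦m⟧ ⟶ X) (π : X ⟶ Y)
      (δ : Y ⟶ (ι.obj N)⟦m⟧⟦(1:ℤ)⟧), Triangle.mk g π δ ∈ distTriang C ∧ t.IsLE Y (b - 1) ∧ P N ∧
        g ≫ q = 0 ∧ ∀ a, a < b → t.IsGE X a → t.IsGE Y a := by
  have h3 : t.IsLE (X⟦b⟧) 0 := t.isLE_shift _ b b 0 (by omega)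
  have h4 : t.IsLE (Z⟦b⟧) (-1) := t.isLE_shift _ (b - 1) b (-1) (by omega)
  obtain ⟨N, Y', g', π', δ', hT, hY', hPN, hgq⟩ := h.dev0 P hP (X⟦b⟧) (Z⟦b⟧) (q⟦b⟧') h3 h4
  have hT' := K350.Tri.shift_dist g' π' δ' hT m
  let e : (X⟦b⟧)⟦m⟧ ≅ X := (shiftFunctorCompIsoId C b m hbm).app X
  let e' : (Z⟦b⟧)⟦m⟧ ≅ Z := (shiftFunctorCompIsoId C b m hbm).app Z
  set w := (m.negOnePow • (δ'⟦m⟧' ≫ (shiftFunctorComm C 1 m).hom.app (ι.obj N))) with hw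
  have hT'' : Triangle.mk (g'⟦m⟧' ≫ e.hom) (e.inv ≫ π'⟦m⟧') w ∈ distTriang C := by
    refine isomorphic_distinguished _ hT' _ (Triangle.isoMk _ _ (Iso.refl _) e.symm (Iso.refl _)
      ?_ ?_ ?_)
    · change (g'⟦m⟧' ≫ e.hom) ≫ e.inv = 𝟙 _ ≫ g'⟦m⟧'
      simp
    · change (e.inv ≫ π'⟦m⟧') ≫ 𝟙 _ = e.inv ≫ π'⟦m⟧'
      simp
    · change w ≫ (𝟙 _)⟦(1:ℤ)⟧' = 𝟙 _ ≫ w
      simp
  refine ⟨N, Y'⟦m⟧, g'⟦m⟧' ≫ e.hom, e.inv ≫ π'⟦m⟧', w, hT'',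
    t.isLE_shift _ (-1) m (b - 1) (by omega), hPN, ?_, ?_⟩
  · have he : e.hom ≫ q = (q⟦b⟧')⟦m⟧' ≫ e'.hom :=
      ((shiftFunctorCompIsoId C b m hbm).hom.naturality q).symm
    rw [Category.assoc, he, ← Category.assoc, ← Functor.map_comp, hgq, Functor.map_zero, zero_comp]
  · intro a ha hXa
    have h5 := h.ge N m b hbm
    refine t.isGE₂ _ (rot_of_distTriang _ hT'') a hXa ?_
    change t.IsGE ((ι.obj N)⟦m⟧⟦(1:ℤ)⟧) a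
    have h6 : t.IsGE ((ι.obj N)⟦m⟧⟦(1:ℤ)⟧) (b - 1) := t.isGE_shift _ b 1 (b-1) (by omega)
    exact t.isGE_of_ge _ a (b - 1) (by omega)

lemma ses (h : HeartData t ι) {K E M : A} (i : K ⟶ E) (p : E ⟶ M) (w : i ≫ p = 0)
    (hS : (ShortComplex.mk i p w).ShortExact) (m : ℤ) :
    ∃ δ : (ι.obj M)⟦m⟧ ⟶ (ι.obj K)⟦m⟧⟦(1:ℤ)⟧,
      Triangle.mk ((ι.map i)⟦m⟧') ((ι.map p)⟦m⟧') δ ∈ distTriang C := by
  obtain ⟨δ, hδ⟩ := h.ses0 i p w hS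
  exact ⟨_, K350.Tri.shift_dist _ _ _ hδ m⟩

lemma map_surj (h : HeartData t ι) {M N : A} (m : ℤ) (f : (ι.obj M)⟦m⟧ ⟶ (ι.obj N)⟦m⟧) :
    ∃ g : M ⟶ N, (ι.map g)⟦m⟧' = f := by
  have _ := h.full
  obtain ⟨f', rfl⟩ := (shiftFunctor C m).map_surjective f
  obtain ⟨g, rfl⟩ := ι.map_surjective f'
  exact ⟨g, rfl⟩

lemma map_inj (h : HeartData t ι) {M N : A} (m : ℤ) {f g : M ⟶ N}
    (hfg : (ι.map f)⟦m⟧' = (ι.map g)⟦m⟧') : f = g := by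
  have _ := h.faithful
  exact ι.map_injective ((shiftFunctor C m).map_injective hfg)

lemma map_zero (h : HeartData t ι) {M N : A} (m : ℤ) : (ι.map (0 : M ⟶ N))⟦m⟧' = 0 := by
  have _ := h.additive
  rw [Functor.map_zero, Functor.map_zero]

/-- Effacement. -/
lemma eff (h : HeartData t ι) (M : A) (b m : ℤ) (hbm : b + m = 0) (Z : C) (ξ : (ι.obj M)⟦m⟧ ⟶ Z)
    (hZ : t.IsLE Z (b - 1)) : ∃ (E : A) (p : E ⟶ M), Epi p ∧ (ι.map p)⟦m⟧' ≫ ξ = 0 := by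
  have h1 := h.le M m b hbm
  obtain ⟨N, Y, g, π, δ, hT, hY, -, hg, -⟩ := h.dev (fun _ => True)
    (fun N => ⟨N, 𝟙 N, inferInstance, trivial⟩) ((ι.obj M)⟦m⟧) Z ξ b m hbm h1 hZ
  obtain ⟨p, rfl⟩ := h.map_surj m g
  refine ⟨N, p, ?_, hg⟩
  rw [Preadditive.epi_iff_cancel_zero]
  intro Q φ hφ
  apply h.map_inj m
  rw [h.map_zero]
  obtain ⟨χ, hχ⟩ := K350.Tri.yon2 hT ((ι.map φ)⟦m⟧') (by
    rw [← Functor.map_comp, ← Functor.map_comp, hφ, h.map_zero])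
  have h2 := h.ge Q m b hbm
  have h3 : χ = 0 := t.zero χ (b - 1) b (by omega)
  rw [hχ, h3, comp_zero]

/-- Negativity. -/
lemma neg (h : HeartData t ι) (X : C) (b m : ℤ) (hbm : b + m = 0) (hX : t.IsLE X b) :
    ∃ M : A, ∀ N : A, (∀ φ : M ⟶ N, φ = 0) → ∀ φ : X ⟶ (ι.obj N)⟦m⟧, φ = 0 := by
  have hT := t.triangleLTGE_distinguished b X
  have h1 : t.IsLE ((t.triangleLTGE b).obj X).obj₁ (b - 1) := inferInstance
  have h2 : t.IsGE ((t.triangleLTGE b).obj X).obj₃ b := inferInstance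
  have h3 : t.IsLE ((t.triangleLTGE b).obj X).obj₃ b := by
    refine t.isLE₂ _ (rot_of_distTriang _ hT) b hX ?_
    change t.IsLE (((t.triangleLTGE b).obj X).obj₁⟦(1:ℤ)⟧) b
    have h6 : t.IsLE (((t.triangleLTGE b).obj X).obj₁⟦(1:ℤ)⟧) (b - 2) :=
      t.isLE_shift _ (b - 1) 1 (b-2) (by omega)
    exact t.isLE_of_le _ (b - 2) b (by omega)
  obtain ⟨M, ⟨e⟩⟩ := h.exists_iso _ b m hbm h3 h2
  refine ⟨M, fun N hN φ => ?_⟩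
  have h4 := h.ge N m b hbm
  obtain ⟨χ, hχ⟩ := Triangle.yoneda_exact₂ _ hT φ (by
    exact t.zero_of_isLE_of_isGE _ (b - 1) b (by omega) h1 h4)
  obtain ⟨g, hg⟩ := h.map_surj m (e.hom ≫ χ)
  have h5 : χ = 0 := by
    rw [← cancel_epi e.hom, ← hg, hN g, h.map_zero, comp_zero]
  rw [hχ, h5]
  exact comp_zero

end HeartData

end K350.HD
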