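import Groth.Prelude.Def_W4stkfunctorsequivSib
import Mathlib.CategoryTheory.Triangulated.TStructure.Induced
import Groth.Agent.DEquiv.K350.HeartData
import Groth.Agent.DEquiv.K350.Db

set_option autoImplicit false
universe w v u

namespace K350.HDb

open CategoryTheory CategoryTheory.Limits CategoryTheory.Pretriangulated
  CategoryTheory.Triangulated DerivedCategory DerivedCategory.TStructure

variable {A : Type u} [Category.{v} A] [Abelian A] [HasDerivedCategory.{w} A]

/-- The cone of a map which is epi on `H^b` from an object in degrees `≤ b`. -/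
lemma isLE_cone (T : Triangle (DerivedCategory A)) (hT : T ∈ distTriang _) (b : ℤ)
    [T.obj₁.IsLE b] [T.obj₂.IsLE b] [Epi ((DerivedCategory.homologyFunctor A b).map T.mor₁)] :
    T.obj₃.IsLE (b - 1) := by
  rw [DerivedCategory.isLE_iff]
  intro i hi
  have h1 : (DerivedCategory.homologyFunctor A i).map T.mor₂ = 0 := by
    by_cases h : i = b
    · subst h
      rw [← DerivedCategory.HomologySequence.epi_homologyMap_mor₁_iff T hT i]
      infer_instance
    · exact (DerivedCategory.isZero_of_isLE T.obj₂ b i (by omega)).eq_of_src _ _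
  have h2 : Epi ((DerivedCategory.homologyFunctor A i).map T.mor₂) := by
    rw [DerivedCategory.HomologySequence.epi_homologyMap_mor₂_iff T hT i (i + 1) rfl]
    exact (DerivedCategory.isZero_of_isLE T.obj₁ b (i + 1) (by omega)).eq_of_tgt _ _
  rw [h1] at h2
  exact IsZero.of_epi_eq_zero (0 : (DerivedCategory.homologyFunctor A i).obj T.obj₂ ⟶ _) rfl

/-- The single functor in degree 0, epi version of refinement. -/
lemma exists_single_epi_comp_zero_of_cover (P : A → Prop)
    (hP : ∀ N₀, ∃ (N : A) (p : N ⟶ N₀), Epi p ∧ P N)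
    (X Z : DerivedCategory A) (f : X ⟶ Z) (b b' : ℤ) (hb : b' < b)
    [X.IsLE b] [Z.IsLE b'] :
    ∃ (N : A) (g : (DerivedCategory.singleFunctor A b).obj N ⟶ X),
      Epi ((DerivedCategory.homologyFunctor A b).map g) ∧ g ≫ f = 0 ∧ P N := by
  obtain ⟨N, g, hg, hgf⟩ := K350.Db.exists_single_epi_comp_zero X Z f b b' hb
  obtain ⟨N', p, hp, hN'⟩ := hP N
  refine ⟨N', (DerivedCategory.singleFunctor A b).map p ≫ g, ?_, ?_, hN'⟩
  · rw [Functor.map_comp]
    have h2 : Epi ((DerivedCategory.homologyFunctor A b).map
        ((DerivedCategory.singleFunctor A b).map p)) := by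
      have h3 := (DerivedCategory.singleFunctorCompHomologyFunctorIso A b).hom.naturality p
      have h4 : Epi ((DerivedCategory.singleFunctor A b ⋙ DerivedCategory.homologyFunctor A b).map
        p ≫ (DerivedCategory.singleFunctorCompHomologyFunctorIso A b).hom.app N) := by
        rw [h3]
        exact epi_comp' inferInstance hp
      have h5 := epi_comp' h4 (show Epi ((DerivedCategory.singleFunctorCompHomologyFunctorIso
        A b).inv.app N) from inferInstance)
      rwa [Category.assoc, Iso.hom_inv_id_app, Category.comp_id] at h5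
    exact epi_comp' h2 hg
  · rw [Category.assoc, hgf, comp_zero]

omit [Abelian A] [HasDerivedCategory A] in
lemma aux_comp {C : Type*} [Category* C] {X Y Z : C} (f : X ⟶ Y) (i : Y ⟶ Z) (j : Z ⟶ Y)
    (l : Y ⟶ Y) (h : i ≫ j = 𝟙 _) (hk : l = 𝟙 _) : ((f ≫ i) ≫ j) ≫ l = 𝟙 _ ≫ f := by
  rw [hk, Category.comp_id, Category.assoc, h, Category.comp_id, Category.id_comp]

variable (A) in
/-- The t-structure on the bounded derived category. -/
noncomputable abbrev tB : TStructure (DerivedCategory.Bounded A) :=
  ((t : TStructure (DerivedCategory A)).bounded).tStructure t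

instance : (DEquiv.singleB A).Additive where
  map_add {X Y f g} := by
    apply (Bounded.ι (C := A)).map_injective
    change (DerivedCategory.singleFunctor A 0).map (f + g) = _
    rw [Functor.map_add]
    rfl

instance : (DEquiv.singleB A).Full where
  map_surjective {X Y} f := by
    obtain ⟨g, hg⟩ := (DerivedCategory.singleFunctor A 0).map_surjective f.hom
    exact ⟨g, ObjectProperty.hom_ext _ hg⟩

instance : (DEquiv.singleB A).Faithful where
  map_injective {X Y} f g h := by
    apply (DerivedCategory.singleFunctor A 0).map_injective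
    exact congrArg (fun x => x.hom) h

theorem heartData : K350.HD.HeartData (tB A) (DEquiv.singleB A) where
  additive := inferInstance
  full := inferInstance
  faithful := inferInstance
  le0 M := by
    rw [ObjectProperty.tStructure_isLE_iff]
    change ((DerivedCategory.singleFunctor A 0).obj M).IsLE 0
    infer_instance
  ge0 M := by
    rw [ObjectProperty.tStructure_isGE_iff]
    change ((DerivedCategory.singleFunctor A 0).obj M).IsGE 0
    infer_instance
  exists_iso0 X h1 h2 := by
    rw [ObjectProperty.tStructure_isLE_iff] at h1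
    rw [ObjectProperty.tStructure_isGE_iff] at h2
    obtain ⟨M, ⟨e⟩⟩ := DerivedCategory.exists_iso_singleFunctor_obj_of_isGE_of_isLE X.obj 0
    exact ⟨M, ⟨ObjectProperty.isoMk _ e⟩⟩
  dev0 P hP X Z q h1 h2 := by
    rw [ObjectProperty.tStructure_isLE_iff] at h1
    rw [ObjectProperty.tStructure_isLE_iff] at h2
    obtain ⟨N, g, hg, hgq, hPN⟩ := exists_single_epi_comp_zero_of_cover P hP X.obj Z.obj q.hom 0 (-1)
      (by omega)
    let g' : (DEquiv.singleB A).obj N ⟶ X := ObjectProperty.homMk g
    obtain ⟨Y, π, δ, hT⟩ := distinguished_cocone_triangle g'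
    refine ⟨N, Y, g', π, δ, hT, ?_, hPN, ObjectProperty.hom_ext _ hgq⟩
    rw [ObjectProperty.tStructure_isLE_iff]
    have hT' := (Bounded.ι (C := A)).map_distinguished _ hT
    have i1 : (((Bounded.ι (C := A)).mapTriangle.obj (Triangle.mk g' π δ)).obj₁).IsLE 0 := by
      change ((DerivedCategory.singleFunctor A 0).obj N).IsLE 0
      infer_instance
    have i2 : (((Bounded.ι (C := A)).mapTriangle.obj (Triangle.mk g' π δ)).obj₂).IsLE 0 := h1
    have i3 : Epi ((DerivedCategory.homologyFunctor A 0).map
      ((Bounded.ι (C := A)).mapTriangle.obj (Triangle.mk g' π δ)).mor₁) := hg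
    exact isLE_cone _ hT' 0
  ses0 {K E M} i p w hS := by
    have hT := hS.singleTriangle_distinguished
    let c := (Bounded.ι (C := A)).commShiftIso (1:ℤ)
    let δ : (DEquiv.singleB A).obj M ⟶ ((DEquiv.singleB A).obj K)⟦(1:ℤ)⟧ :=
      ObjectProperty.homMk (hS.singleδ ≫ c.inv.app ((DEquiv.singleB A).obj K))
    refine ⟨δ, ?_⟩
    change (Bounded.ι (C := A)).mapTriangle.obj _ ∈ distTriang (DerivedCategory A)
    refine isomorphic_distinguished _ hT _ (Triangle.isoMk _ _ (Iso.refl _) (Iso.refl _)
      (Iso.refl _) ?_ ?_ ?_)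
    · change (DerivedCategory.singleFunctor A 0).map i ≫ 𝟙 _ = 𝟙 _ ≫ _
      simp
    · change (DerivedCategory.singleFunctor A 0).map p ≫ 𝟙 _ = 𝟙 _ ≫ _
      simp
    · exact aux_comp _ _ _ _ (Iso.inv_hom_id_app c ((DEquiv.singleB A).obj K)) (CategoryTheory.Functor.map_id _ _)

lemma bounded (X : DerivedCategory.Bounded A) : ∃ a b : ℤ, (tB A).IsGE X a ∧ (tB A).IsLE X b := by
  obtain ⟨⟨a, ha⟩, ⟨b, hb⟩⟩ := X.property
  refine ⟨a, b, ?_, ?_⟩
  · rw [ObjectProperty.tStructure_isGE_iff]; exact ha
  · rw [ObjectProperty.tStructure_isLE_iff]; exact hb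

end K350.HDb
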