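import Mathlib.CategoryTheory.Triangulated.Adjunction
import Mathlib.CategoryTheory.Triangulated.Subcategory

set_option autoImplicit false
universe v v' u u'

namespace K350.Tri

open CategoryTheory CategoryTheory.Limits CategoryTheory.Pretriangulated

variable {D : Type u} [Category.{v} D] [Preadditive D] [HasZeroObject D] [HasShift D ℤ]
    [∀ n : ℤ, (shiftFunctor D n).Additive] [Pretriangulated D]

/-- The shift of a distinguished triangle, with the sign moved to the connecting map. -/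
lemma shift_dist {X Y Z : D} (a : X ⟶ Y) (b : Y ⟶ Z) (c : Z ⟶ X⟦(1 : ℤ)⟧)
    (hT : Triangle.mk a b c ∈ distTriang D) (n : ℤ) :
    Triangle.mk (a⟦n⟧') (b⟦n⟧') (n.negOnePow • (c⟦n⟧' ≫ (shiftFunctorComm D 1 n).hom.app X))
      ∈ distTriang D := by
  have hTi := Triangle.shift_distinguished _ hT n
  refine isomorphic_distinguished _ hTi _ ?_
  let u : Y⟦n⟧ ≅ Y⟦n⟧ := ⟨n.negOnePow • (𝟙 (Y⟦n⟧)), n.negOnePow • (𝟙 (Y⟦n⟧)),
    by simp [smul_smul], by simp [smul_smul]⟩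
  refine Triangle.isoMk _ _ (Iso.refl _) u (Iso.refl _) ?_ ?_ ?_
  · change a⟦n⟧' ≫ (n.negOnePow • (𝟙 (Y⟦n⟧))) = 𝟙 _ ≫ (n.negOnePow • a⟦n⟧')
    simp
  · change b⟦n⟧' ≫ 𝟙 _ = (n.negOnePow • (𝟙 (Y⟦n⟧))) ≫ (n.negOnePow • b⟦n⟧')
    simp [smul_smul]
  · change (n.negOnePow • (c⟦n⟧' ≫ (shiftFunctorComm D 1 n).hom.app X)) ≫ (𝟙 _)⟦(1:ℤ)⟧' =
      𝟙 _ ≫ (n.negOnePow • c⟦n⟧' ≫ (shiftFunctorComm D 1 n).hom.app X)
    simp

/-- A morphism `e : K ⟶ L` inducing bijections on `Hom(E, -⟦i⟧)` for all `E` in a set `S` such that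
`Hom(E, C⟦i⟧) = 0` for all `E ∈ S`, `i` implies `C = 0`, is an isomorphism. -/
lemma isIso_of_bijective_coyoneda (S : Set D)
    (h2 : ∀ K : D, (∀ E ∈ S, ∀ (i : ℤ) (f : E ⟶ (shiftFunctor D i).obj K), f = 0) → IsZero K)
    {K L : D} (e : K ⟶ L)
    (he : ∀ E ∈ S, ∀ i : ℤ, Function.Bijective
      (fun f : E ⟶ (shiftFunctor D i).obj K => f ≫ (shiftFunctor D i).map e)) : IsIso e := by
  obtain ⟨C, b, c, hT⟩ := distinguished_cocone_triangle e
  refine (Triangle.isZero₃_iff_isIso₁ _ hT).1 ?_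
  change IsZero C
  apply h2
  intro E hE i f
  have hTi := shift_dist e b c hT i
  set w := (i.negOnePow • (c⟦i⟧' ≫ (shiftFunctorComm D 1 i).hom.app K)) with hw
  have hwe : w ≫ (e⟦i⟧')⟦(1:ℤ)⟧' = 0 := comp_distTriang_mor_zero₃₁ _ hTi
  have hz : f ≫ w = 0 := by
    have hinj := (he E hE (i + 1)).1
    have h3 : (f ≫ w) ≫ ((shiftFunctorAdd D i 1).inv.app K) = 0 := by
      apply hinj
      change ((f ≫ w) ≫ ((shiftFunctorAdd D i 1).inv.app K)) ≫ e⟦(i + 1)⟧' = 0 ≫ _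
      rw [zero_comp, Category.assoc, ← NatTrans.naturality]
      change (f ≫ w) ≫ (e⟦i⟧')⟦(1:ℤ)⟧' ≫ _ = 0
      rw [Category.assoc, reassoc_of% hwe, zero_comp, comp_zero]
    rw [← cancel_mono ((shiftFunctorAdd D i 1).inv.app K), h3, zero_comp]
  obtain ⟨g, hg⟩ := Triangle.coyoneda_exact₃ _ hTi f hz
  change E ⟶ L⟦i⟧ at g
  change f = g ≫ b⟦i⟧' at hg
  obtain ⟨h, hh⟩ := (he E hE i).2 g
  change h ≫ e⟦i⟧' = g at hh
  rw [hg, ← hh, Category.assoc, ← Functor.map_comp]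
  have : e ≫ b = 0 := comp_distTriang_mor_zero₁₂ _ hT
  rw [this, Functor.map_zero, comp_zero]

/-- The contravariant version of `isIso_of_bijective_coyoneda`. -/
lemma isIso_of_bijective_yoneda (S : Set D)
    (h3 : ∀ K : D, (∀ E ∈ S, ∀ (i : ℤ) (f : K ⟶ (shiftFunctor D i).obj E), f = 0) → IsZero K)
    {K L : D} (e : K ⟶ L)
    (he : ∀ E ∈ S, ∀ i : ℤ, Function.Bijective
      (fun f : L ⟶ (shiftFunctor D i).obj E => e ≫ f)) : IsIso e := by
  obtain ⟨C, b, c, hT⟩ := distinguished_cocone_triangle e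
  refine (Triangle.isZero₃_iff_isIso₁ _ hT).1 ?_
  change IsZero C
  apply h3
  intro E hE i f
  have h0 : b ≫ f = 0 := by
    apply (he E hE i).1
    change e ≫ b ≫ f = e ≫ 0
    have : e ≫ b = 0 := comp_distTriang_mor_zero₁₂ _ hT
    rw [reassoc_of% this, zero_comp, comp_zero]
  obtain ⟨g, hg⟩ := Triangle.yoneda_exact₃ _ hT f h0
  change K⟦(1:ℤ)⟧ ⟶ _ at g
  change f = c ≫ g at hg
  let iso := (shiftFunctorAdd' D (i - 1) 1 i (by omega)).app E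
  obtain ⟨g', hg'⟩ := (shiftFunctor D (1:ℤ)).map_surjective (g ≫ iso.hom)
  obtain ⟨h, hh⟩ := (he E hE (i - 1)).2 g'
  change e ≫ h = g' at hh
  have hc : c ≫ e⟦(1:ℤ)⟧' = 0 := comp_distTriang_mor_zero₃₁ _ hT
  rw [hg, ← cancel_mono iso.hom, Category.assoc, ← hg', ← hh, Functor.map_comp,
    reassoc_of% hc, zero_comp, zero_comp]

end K350.Tri
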