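import Mathlib.CategoryTheory.Linear.LinearFunctor
import Mathlib.LinearAlgebra.Dual.Lemmas
import Mathlib.CategoryTheory.Triangulated.Pretriangulated
import Groth.Agent.DEquiv.K350.Tri

set_option autoImplicit false
universe w v u

namespace K350.Serre

open CategoryTheory CategoryTheory.Limits CategoryTheory.Pretriangulated

section basics

variable {k : Type w} [Field k] {T : Type u} [Category.{v} T] [Preadditive T] [Linear k T]

/-- The linear form `t` on `Hom(X, SX)` makes `SX` represent `Y ↦ Hom(X, Y)^∨`. -/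
structure IsSerre {X SX : T} (t : (X ⟶ SX) →ₗ[k] k) : Prop where
  inj : ∀ {W : T} (θ : W ⟶ SX), (∀ s : X ⟶ W, t (s ≫ θ) = 0) → θ = 0
  surj : ∀ {W : T} (Θ : (X ⟶ W) →ₗ[k] k), ∃ θ : W ⟶ SX, ∀ s : X ⟶ W, t (s ≫ θ) = Θ s

lemma IsSerre.ext {X SX : T} {t : (X ⟶ SX) →ₗ[k] k} (ht : IsSerre t) {W : T} {θ θ' : W ⟶ SX}
    (h : ∀ s : X ⟶ W, t (s ≫ θ) = t (s ≫ θ')) : θ = θ' := by
  rw [← sub_eq_zero]
  apply ht.inj
  intro s
  rw [Preadditive.comp_sub, map_sub, h, sub_self]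

lemma IsSerre.inj' {X SX : T} {t : (X ⟶ SX) →ₗ[k] k} (ht : IsSerre t) {W : T} (s : X ⟶ W)
    (h : ∀ θ : W ⟶ SX, t (s ≫ θ) = 0) : s = 0 := by
  rw [← Module.forall_dual_apply_eq_zero_iff k]
  intro Θ
  obtain ⟨θ, hθ⟩ := ht.surj Θ
  rw [← hθ, h]

lemma IsSerre.ext' {X SX : T} {t : (X ⟶ SX) →ₗ[k] k} (ht : IsSerre t) {W : T} {s s' : X ⟶ W}
    (h : ∀ θ : W ⟶ SX, t (s ≫ θ) = t (s' ≫ θ)) : s = s' := by
  rw [← sub_eq_zero]
  apply ht.inj'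
  intro s
  rw [Preadditive.sub_comp, map_sub, h, sub_self]

/-- The pairing of a Serre form, `s, θ ↦ t (s ≫ θ)`. -/
noncomputable def pairing {X SX : T} (t : (X ⟶ SX) →ₗ[k] k) (W : T) :
    (X ⟶ W) →ₗ[k] (W ⟶ SX) →ₗ[k] k :=
  LinearMap.mk₂ k (fun s θ => t (s ≫ θ)) (fun _ _ _ => by simp) (fun _ _ _ => by simp)
    (fun _ _ _ => by simp) (fun _ _ _ => by simp)

@[simp]
lemma pairing_apply {X SX : T} (t : (X ⟶ SX) →ₗ[k] k) {W : T} (s : X ⟶ W) (θ : W ⟶ SX) :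
    pairing t W s θ = t (s ≫ θ) := rfl

lemma IsSerre.surj' [∀ X Y : T, Module.Finite k (X ⟶ Y)]
    {X SX : T} {t : (X ⟶ SX) →ₗ[k] k} (ht : IsSerre t) {W : T}
    (Φ : (W ⟶ SX) →ₗ[k] k) : ∃ s : X ⟶ W, ∀ θ : W ⟶ SX, t (s ≫ θ) = Φ θ := by
  have hinj : Function.Injective (pairing t W) := by
    rw [injective_iff_map_eq_zero]
    intro s hs
    exact ht.inj' s (fun θ => by rw [← pairing_apply, hs]; rfl)
  have hinj2 : Function.Injective (pairing t W).flip := by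
    rw [injective_iff_map_eq_zero]
    intro s hs
    exact ht.inj s (fun θ => by
      rw [← pairing_apply, ← LinearMap.flip_apply, hs]; rfl)
  have h1 : Module.finrank k (X ⟶ W) = Module.finrank k (Module.Dual k (W ⟶ SX)) := by
    apply le_antisymm
    · exact LinearMap.finrank_le_finrank_of_injective hinj
    · rw [Subspace.dual_finrank_eq]
      refine (LinearMap.finrank_le_finrank_of_injective hinj2).trans ?_
      rw [Subspace.dual_finrank_eq]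
  have hsurj := (LinearMap.injective_iff_surjective_of_finrank_eq_finrank h1).1 hinj
  obtain ⟨s, hs⟩ := hsurj Φ
  exact ⟨s, fun θ => by rw [← pairing_apply, hs]⟩

/-- The equivalence `Hom(X, Y) ≃ Hom(Y, SX)^∨` of a Serre form. -/
noncomputable def IsSerre.equiv [∀ X Y : T, Module.Finite k (X ⟶ Y)]
    {X SX : T} {t : (X ⟶ SX) →ₗ[k] k} (ht : IsSerre t) (W : T) :
    (X ⟶ W) ≃ₗ[k] Module.Dual k (W ⟶ SX) :=
  LinearEquiv.ofBijective (pairing t W) ⟨by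
    rw [injective_iff_map_eq_zero]
    intro s hs
    exact ht.inj' s (fun θ => by rw [← pairing_apply, hs]; rfl), fun Φ => by
      obtain ⟨s, hs⟩ := ht.surj' Φ
      exact ⟨s, LinearMap.ext hs⟩⟩

@[simp]
lemma IsSerre.equiv_apply [∀ X Y : T, Module.Finite k (X ⟶ Y)]
    {X SX : T} {t : (X ⟶ SX) →ₗ[k] k} (ht : IsSerre t) {W : T} (s : X ⟶ W) (θ : W ⟶ SX) :
    ht.equiv W s θ = t (s ≫ θ) := rfl

/-- The equivalence `Hom(Y, SX) ≃ Hom(X, Y)^∨` of a Serre form. -/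
noncomputable def IsSerre.equiv' {X SX : T} {t : (X ⟶ SX) →ₗ[k] k} (ht : IsSerre t) (W : T) :
    (W ⟶ SX) ≃ₗ[k] Module.Dual k (X ⟶ W) :=
  LinearEquiv.ofBijective (pairing t W).flip ⟨by
    rw [injective_iff_map_eq_zero]
    intro s hs
    exact ht.inj s (fun θ => by rw [← pairing_apply, ← LinearMap.flip_apply, hs]; rfl), fun Φ => by
      obtain ⟨s, hs⟩ := ht.surj Φ
      exact ⟨s, LinearMap.ext hs⟩⟩

@[simp]
lemma IsSerre.equiv'_apply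
    {X SX : T} {t : (X ⟶ SX) →ₗ[k] k} (ht : IsSerre t) {W : T} (s : X ⟶ W) (θ : W ⟶ SX) :
    ht.equiv' W θ s = t (s ≫ θ) := rfl

lemma isSerre_of_equiv [∀ X Y : T, Module.Finite k (X ⟶ Y)] {X SX : T}
    (c : ∀ Y, (X ⟶ Y) ≃ₗ[k] Module.Dual k (Y ⟶ SX))
    (hc : ∀ (Y Y' : T) (f : X ⟶ Y) (g : Y ⟶ Y'),
      c Y' (f ≫ g) = (c Y f) ∘ₗ Linear.leftComp k SX g) :
    IsSerre (c X (𝟙 X)) ∧ ∀ (Y : T) (f : X ⟶ Y) (g : Y ⟶ SX), c Y f g = c X (𝟙 X) (f ≫ g) := by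
  have h : ∀ (Y : T) (f : X ⟶ Y) (g : Y ⟶ SX), c Y f g = c X (𝟙 X) (f ≫ g) := by
    intro Y f g
    have := hc X Y (𝟙 X) f
    rw [Category.id_comp] at this
    rw [this]
    rfl
  refine ⟨⟨?_, ?_⟩, h⟩
  · intro W θ hθ
    rw [← Module.forall_dual_apply_eq_zero_iff k]
    intro Φ
    obtain ⟨s, rfl⟩ := (c W).surjective Φ
    rw [h, hθ]
  · intro W Θ
    obtain ⟨θ, hθ⟩ := (Module.evalEquiv k (W ⟶ SX)).surjective ((c W).symm.dualMap Θ)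
    refine ⟨θ, fun s => ?_⟩
    rw [← h]
    have := congrArg (fun x => x (c W s)) hθ
    simpa using this

lemma isSerre_of_equiv' {X SX : T}
    (e : ∀ Y, (Y ⟶ SX) ≃ₗ[k] Module.Dual k (X ⟶ Y))
    (he : ∀ (Y Y' : T) (g : Y' ⟶ Y) (f : Y ⟶ SX),
          e Y' (g ≫ f) = (e Y f) ∘ₗ Linear.rightComp k X g) :
    ∃ t : (X ⟶ SX) →ₗ[k] k, IsSerre t ∧
      ∀ (Y : T) (g : Y ⟶ SX) (f : X ⟶ Y), e Y g f = t (f ≫ g) := by
  have h : ∀ (Y : T) (g : Y ⟶ SX) (f : X ⟶ Y), e Y g f = e SX (𝟙 SX) (f ≫ g) := by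
    intro Y g f
    have := he SX Y g (𝟙 SX)
    rw [Category.comp_id] at this
    rw [this]
    rfl
  refine ⟨e SX (𝟙 SX), ⟨?_, ?_⟩, h⟩
  · intro W θ hθ
    apply (e W).injective
    ext s
    rw [h, hθ, map_zero]
    rfl
  · intro W Θ
    obtain ⟨θ, hθ⟩ := (e W).surjective Θ
    refine ⟨θ, fun s => ?_⟩
    rw [← h, hθ]

/-- Representing data are unique up to unique isomorphism. -/
lemma IsSerre.exists_iso {X SX SX' : T} {t : (X ⟶ SX) →ₗ[k] k} (ht : IsSerre t)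
    {t' : (X ⟶ SX') →ₗ[k] k} (ht' : IsSerre t') :
    ∃ φ : SX ≅ SX', (∀ u : X ⟶ SX, t' (u ≫ φ.hom) = t u) ∧ ∀ u : X ⟶ SX', t (u ≫ φ.inv) = t' u := by
  obtain ⟨φ, hφ⟩ := ht'.surj t
  obtain ⟨ψ, hψ⟩ := ht.surj t'
  refine ⟨⟨φ, ψ, ?_, ?_⟩, hφ, hψ⟩
  · apply ht.ext
    intro s
    rw [← Category.assoc, hψ, hφ, Category.comp_id]
  · apply ht'.ext
    intro s
    rw [← Category.assoc, hφ, hψ, Category.comp_id]

/-- Serre functors are unique up to unique isomorphism. -/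
theorem existsUnique_iso (S S' : T ⥤ T)
    (t : ∀ X, (X ⟶ S.obj X) →ₗ[k] k) (ht : ∀ X, IsSerre (t X))
    (hn : ∀ {X' X : T} (a : X' ⟶ X) (u : X ⟶ S.obj X'), t X' (a ≫ u) = t X (u ≫ S.map a))
    (t' : ∀ X, (X ⟶ S'.obj X) →ₗ[k] k) (ht' : ∀ X, IsSerre (t' X))
    (hn' : ∀ {X' X : T} (a : X' ⟶ X) (u : X ⟶ S'.obj X'), t' X' (a ≫ u) = t' X (u ≫ S'.map a)) :
    ∃! φ : S ≅ S', ∀ (X : T) (u : X ⟶ S.obj X), t' X (u ≫ φ.hom.app X) = t X u := by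
  choose φ hφ hφ' using fun X => (ht X).exists_iso (ht' X)
  refine ⟨NatIso.ofComponents φ ?_, ?_, ?_⟩
  · intro X' X a
    apply (ht' X).ext
    intro s
    rw [← Category.assoc, hφ, ← Category.assoc, ← hn', ← hn, ← Category.assoc, hφ]
  · intro X u
    exact hφ X u
  · intro ψ hψ
    ext X
    apply (ht' X).ext
    intro s
    rw [hψ]
    exact (hφ X s).symm

end basics

end K350.Serre
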