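import Groth.Agent.DEquiv.K350.Serre

set_option autoImplicit false
universe w v u

namespace K350.Serre

open CategoryTheory CategoryTheory.Limits CategoryTheory.Pretriangulated

section basics

variable {k : Type w} [Field k] {T : Type u} [Category.{v} T] [Preadditive T] [Linear k T]

lemma IsSerre.of_iso {X SX SX' : T} {t : (X ⟶ SX) →ₗ[k] k} (ht : IsSerre t) (e : SX ≅ SX') :
    IsSerre (t ∘ₗ Linear.rightComp k X e.inv) := by
  refine ⟨?_, ?_⟩
  · intro W θ hθ
    rw [← cancel_mono e.inv, zero_comp]
    apply ht.inj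
    intro s
    have := hθ s
    simpa using this
  · intro W Θ
    obtain ⟨θ, hθ⟩ := ht.surj Θ
    exact ⟨θ ≫ e.hom, fun s => by simp [hθ]⟩

variable (SX : T → T) (t : ∀ X, (X ⟶ SX X) →ₗ[k] k) (ht : ∀ X, IsSerre (t X))

/-- The action on morphisms of a functor given by Serre objects. -/
noncomputable def serreMap {X' X : T} (a : X' ⟶ X) : SX X' ⟶ SX X :=
  Classical.choose ((ht X).surj (W := SX X') ((t X') ∘ₗ Linear.leftComp k _ a))

lemma serreMap_spec {X' X : T} (a : X' ⟶ X) (u : X ⟶ SX X') :
    t X (u ≫ serreMap SX t ht a) = t X' (a ≫ u) :=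
  Classical.choose_spec ((ht X).surj (W := SX X') ((t X') ∘ₗ Linear.leftComp k _ a)) u

lemma serreMap_id (X : T) : serreMap SX t ht (𝟙 X) = 𝟙 (SX X) := by
  apply (ht X).ext
  intro s
  rw [serreMap_spec]; simp

lemma serreMap_comp {X Y Z : T} (a : X ⟶ Y) (b : Y ⟶ Z) :
    serreMap SX t ht (a ≫ b) = serreMap SX t ht a ≫ serreMap SX t ht b := by
  apply (ht Z).ext
  intro s
  rw [serreMap_spec, ← Category.assoc s, serreMap_spec, ← Category.assoc b, serreMap_spec,
    Category.assoc]

lemma serreMap_add {X Y : T} (a b : X ⟶ Y) :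
    serreMap SX t ht (a + b) = serreMap SX t ht a + serreMap SX t ht b := by
  apply (ht Y).ext
  intro s
  rw [serreMap_spec, Preadditive.comp_add,
      map_add, serreMap_spec, serreMap_spec, Preadditive.add_comp, map_add]

lemma serreMap_smul {X Y : T} (r : k) (a : X ⟶ Y) :
    serreMap SX t ht (r • a) = r • serreMap SX t ht a := by
  apply (ht Y).ext
  intro s
  rw [serreMap_spec, Linear.comp_smul,
      map_smul, serreMap_spec, Linear.smul_comp, map_smul]

lemma serreMap_injective {X Y : T} (a b : X ⟶ Y) (h : serreMap SX t ht a = serreMap SX t ht b) :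
    a = b := by
  apply (ht X).ext'
  intro θ
  rw [← serreMap_spec SX t ht, h, serreMap_spec SX t ht]

lemma serreMap_surjective [∀ X Y : T, Module.Finite k (X ⟶ Y)] {X Y : T} (φ : SX X ⟶ SX Y) :
    ∃ a : X ⟶ Y, serreMap SX t ht a = φ := by
  obtain ⟨a, ha⟩ := (ht X).surj' (W := Y) ((t Y) ∘ₗ Linear.rightComp k Y φ)
  refine ⟨a, ?_⟩
  apply (ht Y).ext
  intro s
  rw [serreMap_spec, ha]
  rfl

/-- The functor given by Serre objects. -/
noncomputable def serreFunctor : T ⥤ T where
  obj := SX
  map a := serreMap SX t ht a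
  map_id X := serreMap_id SX t ht X
  map_comp a b := serreMap_comp SX t ht a b

instance serreFunctor_additive : (serreFunctor SX t ht).Additive where
  map_add {_ _ a b} := serreMap_add SX t ht a b

instance serreFunctor_linear : (serreFunctor SX t ht).Linear k where
  map_smul a r := serreMap_smul SX t ht r a

instance serreFunctor_faithful : (serreFunctor SX t ht).Faithful where
  map_injective h := serreMap_injective SX t ht _ _ h

instance serreFunctor_full [∀ X Y : T, Module.Finite k (X ⟶ Y)] :
    (serreFunctor SX t ht).Full where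
  map_surjective φ := serreMap_surjective SX t ht φ

end basics

end K350.Serre
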