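import Groth.Agent.DEquiv.K350.Serre

set_option autoImplicit false
universe w v u

namespace K350.Serre

open CategoryTheory CategoryTheory.Limits CategoryTheory.Pretriangulated

/-- Extension of two compatible linear forms. -/
lemma exists_form {k : Type*} [Field k] {A B M : Type*} [AddCommGroup A] [AddCommGroup B]
    [AddCommGroup M] [Module k A] [Module k B] [Module k M] (α : A →ₗ[k] M) (β : B →ₗ[k] M)
    (l : A →ₗ[k] k) (m : B →ₗ[k] k) (h : ∀ a b, α a = β b → l a = m b) :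
    ∃ Θ : M →ₗ[k] k, (∀ a, Θ (α a) = l a) ∧ ∀ b, Θ (β b) = m b := by
  have h1 : l.coprod m ∈ LinearMap.range (α.coprod β).dualMap := by
    rw [LinearMap.range_dualMap_eq_dualAnnihilator_ker, Submodule.mem_dualAnnihilator]
    rintro ⟨a, b⟩ hab
    rw [LinearMap.mem_ker, LinearMap.coprod_apply] at hab
    rw [LinearMap.coprod_apply]
    have h2 := h a (-b) (by rw [map_neg]; exact eq_neg_of_add_eq_zero_left hab)
    rw [h2, map_neg, neg_add_cancel]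
  obtain ⟨Θ, hΘ⟩ := h1
  refine ⟨Θ, fun a => ?_, fun b => ?_⟩
  · have := congrArg (fun x => x (a, 0)) hΘ
    simpa using this
  · have := congrArg (fun x => x (0, b)) hΘ
    simpa using this

section

variable {k : Type w} [Field k] {T : Type u} [Category.{v} T] [Preadditive T] [Linear k T]
  [HasShift T ℤ] [∀ n : ℤ, (shiftFunctor T n).Additive] [∀ n : ℤ, (shiftFunctor T n).Linear k]

lemma IsSerre.exists_shift {X SX : T} {t : (X ⟶ SX) →ₗ[k] k} (ht : IsSerre t) :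
    ∃ t' : (X⟦(1:ℤ)⟧ ⟶ SX⟦(1:ℤ)⟧) →ₗ[k] k, IsSerre t' ∧ ∀ u : X ⟶ SX, t' (u⟦(1:ℤ)⟧') = - t u := by
  let E : ∀ A B : T, (A ⟶ B) ≃ₗ[k] (A⟦(1:ℤ)⟧ ⟶ B⟦(1:ℤ)⟧) := fun A B =>
    LinearEquiv.ofBijective ((shiftFunctor T (1:ℤ)).mapLinearMap k)
      ⟨(shiftFunctor T (1:ℤ)).map_injective, (shiftFunctor T (1:ℤ)).map_surjective⟩
  have hE : ∀ {A B : T} (u : A ⟶ B), E A B u = u⟦(1:ℤ)⟧' := fun u => rfl
  have h0 : ∀ u : X ⟶ SX, (-(t ∘ₗ (E X SX).symm.toLinearMap)) (u⟦(1:ℤ)⟧') = - t u := by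
    intro u
    rw [← hE]
    simp
  refine ⟨-(t ∘ₗ (E X SX).symm.toLinearMap), ⟨?_, ?_⟩, h0⟩
  · intro W θ hθ
    let e : (W⟦(-1:ℤ)⟧)⟦(1:ℤ)⟧ ≅ W := (shiftFunctorCompIsoId T (-1:ℤ) 1 (by omega)).app W
    obtain ⟨θ', hθ'⟩ := (shiftFunctor T (1:ℤ)).map_surjective (e.hom ≫ θ)
    have h1 : θ' = 0 := by
      apply ht.inj
      intro s
      rw [← neg_eq_zero, ← h0, Functor.map_comp, hθ', ← Category.assoc]
      exact hθ _
    rw [← cancel_epi e.hom, ← hθ', h1, Functor.map_zero, comp_zero]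
  · intro W Θ
    let e : (W⟦(-1:ℤ)⟧)⟦(1:ℤ)⟧ ≅ W := (shiftFunctorCompIsoId T (-1:ℤ) 1 (by omega)).app W
    obtain ⟨θ, hθ⟩ := ht.surj (W := W⟦(-1:ℤ)⟧)
      (-(Θ ∘ₗ Linear.rightComp k (X⟦(1:ℤ)⟧) e.hom ∘ₗ (E X (W⟦(-1:ℤ)⟧)).toLinearMap))
    refine ⟨e.inv ≫ θ⟦(1:ℤ)⟧', fun s => ?_⟩
    obtain ⟨s', hs'⟩ := (shiftFunctor T (1:ℤ)).map_surjective (s ≫ e.inv)
    rw [← Category.assoc, ← hs', ← Functor.map_comp, h0, hθ]
    change - - Θ ((s'⟦(1:ℤ)⟧') ≫ e.hom) = Θ s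
    rw [hs', neg_neg, Category.assoc, e.inv_hom_id, Category.comp_id]

/-- The commutation of a Serre functor with the shift. -/
lemma exists_commShift (S : T ⥤ T)
    (t : ∀ X, (X ⟶ S.obj X) →ₗ[k] k) (ht : ∀ X, IsSerre (t X))
    (hn : ∀ {X' X : T} (a : X' ⟶ X) (u : X ⟶ S.obj X'), t X' (a ≫ u) = t X (u ≫ S.map a)) :
    ∃ e : shiftFunctor T (1 : ℤ) ⋙ S ≅ S ⋙ shiftFunctor T (1 : ℤ), ∀ (X : T) (u : X ⟶ S.obj X),
      t (X⟦(1:ℤ)⟧) (u⟦(1:ℤ)⟧' ≫ e.inv.app X) = - t X u := by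
  choose t' ht' ht't using fun X => (ht X).exists_shift
  choose φ hφ hφ' using fun X => (ht (X⟦(1:ℤ)⟧)).exists_iso (ht' X)
  refine ⟨NatIso.ofComponents φ ?_, ?_⟩
  · intro X' X a
    apply (ht' X).ext
    intro s
    change X⟦(1:ℤ)⟧ ⟶ S.obj (X'⟦(1:ℤ)⟧) at s
    change t' X (s ≫ S.map (a⟦(1:ℤ)⟧') ≫ (φ X).hom) = t' X (s ≫ (φ X').hom ≫ (S.map a)⟦(1:ℤ)⟧')
    rw [← Category.assoc, hφ, ← hn, ← hφ, ← Category.assoc s]
    obtain ⟨u, hu⟩ := (shiftFunctor T (1:ℤ)).map_surjective (s ≫ (φ X').hom)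
    rw [Category.assoc, ← hu, ← Functor.map_comp, ← Functor.map_comp, ht't, ht't, hn]
  · intro X u
    rw [← ht't]
    exact hφ' X _

end

section

variable {k : Type w} [Field k] {T : Type u} [Category.{v} T] [Preadditive T] [Linear k T]
  [HasZeroObject T]
  [HasShift T ℤ] [∀ n : ℤ, (shiftFunctor T n).Additive] [∀ n : ℤ, (shiftFunctor T n).Linear k]
  [Pretriangulated T]

/-- Serre functors are triangulated. -/
theorem serre_triangulated (S : T ⥤ T) [S.IsEquivalence] [S.Additive]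
    (t : ∀ X, (X ⟶ S.obj X) →ₗ[k] k) (ht : ∀ X, IsSerre (t X))
    (hn : ∀ {X' X : T} (a : X' ⟶ X) (u : X ⟶ S.obj X'), t X' (a ≫ u) = t X (u ≫ S.map a))
    (e : shiftFunctor T (1 : ℤ) ⋙ S ≅ S ⋙ shiftFunctor T (1 : ℤ))
    (he : ∀ (X : T) (u : X ⟶ S.obj X),
      t (X⟦(1:ℤ)⟧) (u⟦(1:ℤ)⟧' ≫ e.inv.app X) = - t X u)
    {X Y Z : T} (f : X ⟶ Y) (g : Y ⟶ Z) (h : Z ⟶ X⟦(1:ℤ)⟧) (hT : Triangle.mk f g h ∈ distTriang T) :
    Triangle.mk (S.map f) (S.map g) (S.map h ≫ e.hom.app X) ∈ distTriang T := by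
  obtain ⟨E, hE⟩ : ∃ E : ∀ X : T, S.obj (X⟦(1:ℤ)⟧) ≅ (S.obj X)⟦(1:ℤ)⟧,
    ∀ X, E X = e.app X := ⟨_, fun X => rfl⟩
  have he' : ∀ (X : T) (u : X ⟶ S.obj X),
      t (X⟦(1:ℤ)⟧) (u⟦(1:ℤ)⟧' ≫ (E X).inv) = - t X u := by
    intro X u; rw [hE]; exact he X u
  have hEn : ∀ {X Y : T} (a : X ⟶ Y), S.map (a⟦(1:ℤ)⟧') ≫ (E Y).hom = (E X).hom ≫ (S.map a)⟦(1:ℤ)⟧' := by
    intro X Y a
    rw [hE, hE]
    exact e.hom.naturality a
  have hgoal : e.hom.app X = (E X).hom := by rw [hE]; rfl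
  rw [hgoal]
  obtain ⟨W, v, w, hW⟩ := distinguished_cocone_triangle (S.map f)
  -- the compatibility
  have hcomp : ∀ (s : Z ⟶ S.obj Y) (r : X⟦(1:ℤ)⟧ ⟶ W), s ≫ v = h ≫ r →
      t Y (g ≫ s) = t (X⟦(1:ℤ)⟧) (r ≫ w ≫ (E X).inv) := by
    intro s r hsr
    obtain ⟨p, hp1, hp2⟩ := complete_distinguished_triangle_morphism₁ _ _
      (rot_of_distTriang _ hT) hW s r hsr.symm
    change Y ⟶ S.obj X at p
    change g ≫ s = p ≫ S.map f at hp1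
    change (-(f⟦(1:ℤ)⟧')) ≫ p⟦(1:ℤ)⟧' = r ≫ w at hp2
    rw [hp1, ← hn, ← Category.assoc, ← hp2, Preadditive.neg_comp, ← Functor.map_comp,
      Preadditive.neg_comp, map_neg, he', neg_neg]
  obtain ⟨Θ, hΘ1, hΘ2⟩ := exists_form (k := k) (Linear.rightComp k Z v) (Linear.leftComp k W h)
    ((t Y) ∘ₗ Linear.leftComp k _ g) ((t (X⟦(1:ℤ)⟧)) ∘ₗ Linear.rightComp k _ (w ≫ (E X).inv)) hcomp
  obtain ⟨θ, hθ⟩ := (ht Z).surj Θ
  have h1 : v ≫ θ = S.map g := by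
    apply (ht Z).ext
    intro s
    rw [← Category.assoc, hθ]
    refine (hΘ1 s).trans ?_
    exact hn g s
  have h2 : θ ≫ S.map h ≫ (E X).hom = w := by
    rw [← Category.assoc, ← Iso.eq_comp_inv]
    apply (ht _).ext
    intro r
    rw [← Category.assoc, ← hn, ← Category.assoc, hθ]
    exact hΘ2 r
  -- exactness of the image under `S`
  have hex : ∀ {A B C : T} (a : A ⟶ B) (b : B ⟶ C)
      (_ : ∀ {U : T} (φ : U ⟶ B), φ ≫ b = 0 → ∃ ψ : U ⟶ A, φ = ψ ≫ a) {U : T} (φ : U ⟶ S.obj B),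
      φ ≫ S.map b = 0 → ∃ ψ : U ⟶ S.obj A, φ = ψ ≫ S.map a := by
    intro A B C a b hab U φ hφ
    let i : S.obj (S.objPreimage U) ≅ U := S.objObjPreimageIso U
    obtain ⟨φ', hφ'⟩ := S.map_surjective (i.hom ≫ φ)
    obtain ⟨ψ, hψ⟩ := hab φ' (by
      apply S.map_injective
      rw [Functor.map_comp, hφ', Category.assoc, hφ, comp_zero, Functor.map_zero])
    refine ⟨i.inv ≫ S.map ψ, ?_⟩
    rw [Category.assoc, ← Functor.map_comp, ← hψ, hφ', Iso.inv_hom_id_assoc]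
  have hfg : f ≫ g = 0 := comp_distTriang_mor_zero₁₂ _ hT
  have hhf : h ≫ f⟦(1:ℤ)⟧' = 0 := comp_distTriang_mor_zero₃₁ _ hT
  have hvw : S.map f ≫ v = 0 := comp_distTriang_mor_zero₁₂ _ hW
  have hiso : IsIso θ := by
    apply isIso_of_yoneda_map_bijective
    intro U
    constructor
    · intro φ φ' hφ
      change φ ≫ θ = φ' ≫ θ at hφ
      rw [← sub_eq_zero] at hφ ⊢
      rw [← Preadditive.sub_comp] at hφ
      set χ := φ - φ' with hχ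
      have h3 : χ ≫ w = 0 := by
        rw [← h2, reassoc_of% hφ, zero_comp]
      obtain ⟨ψ, hψ⟩ := Triangle.coyoneda_exact₃ _ hW χ h3
      change U ⟶ S.obj Y at ψ
      change χ = ψ ≫ v at hψ
      have h4 : ψ ≫ S.map g = 0 := by
        rw [← h1, ← Category.assoc, ← hψ, hφ]
      obtain ⟨ξ, hξ⟩ := hex f g (fun φ hφ => Triangle.coyoneda_exact₂ _ hT φ hφ) ψ h4
      rw [hψ, hξ, Category.assoc, hvw, comp_zero]
    · intro φ
      change U ⟶ S.obj Z at φ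
      have h3 : (φ ≫ S.map h ≫ (E X).hom) ≫ (S.map f)⟦(1:ℤ)⟧' = 0 := by
        simp only [Category.assoc]
        rw [← hEn, ← Category.assoc (S.map h), ← Functor.map_comp, hhf, Functor.map_zero,
          zero_comp, comp_zero]
      obtain ⟨φ', hφ'⟩ := Triangle.coyoneda_exact₁ _ hW (φ ≫ S.map h ≫ (E X).hom) h3
      change U ⟶ W at φ'
      change φ ≫ S.map h ≫ (E X).hom = φ' ≫ w at hφ'
      have h4 : (φ - φ' ≫ θ) ≫ S.map h = 0 := by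
        rw [← cancel_mono (E X).hom, zero_comp, Preadditive.sub_comp, Preadditive.sub_comp,
          Category.assoc, hφ', Category.assoc, Category.assoc, h2, sub_self]
      obtain ⟨ψ, hψ⟩ := hex g h (fun φ hφ => Triangle.coyoneda_exact₃ _ hT φ hφ) _ h4
      refine ⟨φ' + ψ ≫ v, ?_⟩
      change (φ' + ψ ≫ v) ≫ θ = φ
      rw [Preadditive.add_comp, Category.assoc, h1, ← hψ, add_sub_cancel]
  refine isomorphic_distinguished _ hW _ (Triangle.isoMk _ _ (Iso.refl _) (Iso.refl _)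
    (asIso θ).symm ?_ ?_ ?_)
  · change S.map f ≫ 𝟙 _ = 𝟙 _ ≫ S.map f
    simp
  · change S.map g ≫ inv θ = 𝟙 _ ≫ v
    rw [← h1]; simp
  · change (S.map h ≫ (E X).hom) ≫ (𝟙 _)⟦(1:ℤ)⟧' = inv θ ≫ w
    rw [← h2]; simp

end

end K350.Serre
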