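import Mathlib.CategoryTheory.Shift.CommShift
import Groth.Agent.DEquiv.K350.Tri2

set_option autoImplicit false
universe v v' v'' u u' u''

namespace K350.Th

open CategoryTheory CategoryTheory.Limits

variable {A : Type u} [Category.{v} A]
  {C : Type u'} [Category.{v'} C] [HasShift C ℤ]
  {D : Type u''} [Category.{v''} D] [HasShift D ℤ]
  {ι : A ⥤ C} {F F' : C ⥤ D} [F.CommShift ℤ] [F'.CommShift ℤ] (τ : ι ⋙ F ≅ ι ⋙ F')

/-- The isomorphism `F((ι N)⟦m⟧) ≅ F'((ι N)⟦m⟧)` deduced from `ι ⋙ F ≅ ι ⋙ F'`. -/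
noncomputable def th (m : ℤ) (N : A) : F.obj ((ι.obj N)⟦m⟧) ≅ F'.obj ((ι.obj N)⟦m⟧) :=
  (F.commShiftIso m).app (ι.obj N) ≪≫ (shiftFunctor D m).mapIso (τ.app N) ≪≫
    ((F'.commShiftIso m).app (ι.obj N)).symm

lemma th_hom (m : ℤ) (N : A) : (th τ m N).hom = (F.commShiftIso m).hom.app (ι.obj N) ≫
    (shiftFunctor D m).map (τ.hom.app N) ≫ (F'.commShiftIso m).inv.app (ι.obj N) := rfl

lemma th_nat (m : ℤ) {N N' : A} (f : N ⟶ N') :
    F.map ((ι.map f)⟦m⟧') ≫ (th τ m N').hom = (th τ m N).hom ≫ F'.map ((ι.map f)⟦m⟧') := by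
  rw [th_hom, th_hom]
  have h1 := (F.commShiftIso m).hom.naturality (ι.map f)
  have h2 := (F'.commShiftIso m).inv.naturality (ι.map f)
  have h3 := τ.hom.naturality f
  dsimp at h1 h2 h3 ⊢
  rw [reassoc_of% h1, Category.assoc, Category.assoc, ← h2, ← Functor.map_comp_assoc, h3,
    Functor.map_comp_assoc]

lemma th_shift (m m' : ℤ) (h : m + 1 = m') (N : A) :
    F.map ((shiftFunctorAdd' C m 1 m' h).hom.app (ι.obj N)) ≫
      (F.commShiftIso (1:ℤ)).hom.app ((ι.obj N)⟦m⟧) ≫ ((th τ m N).hom)⟦(1:ℤ)⟧' =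
    (th τ m' N).hom ≫ F'.map ((shiftFunctorAdd' C m 1 m' h).hom.app (ι.obj N)) ≫
      (F'.commShiftIso (1:ℤ)).hom.app ((ι.obj N)⟦m⟧) := by
  have e1 := NatTrans.congr_app (congr_arg Iso.hom (F.commShiftIso_add' h)) (ι.obj N)
  have e2 := NatTrans.congr_app (congr_arg Iso.inv (F'.commShiftIso_add' h)) (ι.obj N)
  rw [Functor.CommShift.isoAdd'_hom_app] at e1
  rw [Functor.CommShift.isoAdd'_inv_app] at e2
  rw [th_hom, th_hom, e1, e2]
  simp only [Category.assoc]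
  have e3 := (shiftFunctorAdd' D m 1 m' h).hom.naturality (τ.hom.app N)
  dsimp at e3 ⊢
  rw [← Functor.map_comp_assoc F']
  simp only [Iso.inv_hom_id_app, Functor.comp_obj, CategoryTheory.Functor.map_id,
    Category.id_comp, Category.comp_id, Functor.map_comp]
  rw [reassoc_of% e3]
  simp only [Iso.inv_hom_id_app_assoc]

lemma th_cs (m m' : ℤ) (h : m + 1 = m') (N : A) :
    F.map ((shiftFunctorAdd' C m 1 m' h).hom.app (ι.obj N)) ≫
      (K350.Tri.cs F ((ι.obj N)⟦m⟧)).hom ≫ ((th τ m N).hom)⟦(1:ℤ)⟧' =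
    (th τ m' N).hom ≫ F'.map ((shiftFunctorAdd' C m 1 m' h).hom.app (ι.obj N)) ≫
      (K350.Tri.cs F' ((ι.obj N)⟦m⟧)).hom := th_shift τ m m' h N

end K350.Th
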