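import Groth.Agent.DEquiv.K350.HeartData
import Groth.Agent.DEquiv.K350.Th

set_option autoImplicit false
set_option linter.unusedSectionVars false
universe v v' v'' u u' u''

namespace K350.Sib

open CategoryTheory CategoryTheory.Limits CategoryTheory.Pretriangulated
  CategoryTheory.Triangulated K350.HD K350.Th K350.Tri
open scoped ZeroObject

variable {A : Type u} [Category.{v} A] [Abelian A]
  {C : Type u'} [Category.{v'} C] [Preadditive C] [HasZeroObject C] [HasShift C ℤ]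
  [∀ n : ℤ, (shiftFunctor C n).Additive] [Pretriangulated C]
  {D : Type u''} [Category.{v''} D] [Preadditive D] [HasZeroObject D] [HasShift D ℤ]
  [∀ n : ℤ, (shiftFunctor D n).Additive] [Pretriangulated D]
  {t : TStructure C} {ι : A ⥤ C} (h : HeartData t ι) {F F' : C ⥤ D} [F.CommShift ℤ]
  [F.IsTriangulated] [F'.CommShift ℤ] [F'.IsTriangulated] (τ : ι ⋙ F ≅ ι ⋙ F')

/-- Vanishing of negative extensions on the heart. -/
def NegVan (ι : A ⥤ C) (F : C ⥤ D) : Prop :=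
  ∀ (X Y : A) (q : ℤ), q < 0 → ∀ f : F.obj (ι.obj X) ⟶ (F.obj (ι.obj Y))⟦q⟧, f = 0

include τ in
lemma hom_zero (hv : NegVan ι F) (M N : A) (m n : ℤ) (hmn : n < m)
    (φ : F.obj ((ι.obj M)⟦m⟧) ⟶ F'.obj ((ι.obj N)⟦n⟧)) : φ = 0 := by
  let e1 := (F.commShiftIso m).app (ι.obj M)
  let e2 := th τ n N
  let e3 := (F.commShiftIso n).app (ι.obj N)
  let e4 := (shiftFunctorAdd' D (n - m) m n (by omega)).app (F.obj (ι.obj N))
  obtain ⟨ρ, hρ⟩ := (shiftFunctor D m).map_surjective (e1.inv ≫ φ ≫ e2.inv ≫ e3.hom ≫ e4.hom)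
  have h1 : ρ = 0 := hv M N (n - m) (by omega) ρ
  rw [h1, Functor.map_zero] at hρ
  rw [← cancel_epi e1.inv, ← cancel_mono e2.inv, ← cancel_mono e3.hom, ← cancel_mono e4.hom]
  simp only [Category.assoc]
  rw [← hρ]
  simp

include h in
lemma dev1 (X : C) (b m : ℤ) (hbm : b + m = 0) (hX : t.IsLE X b) :
    ∃ (N : A) (Y : C) (g : (ι.obj N)⟦m⟧ ⟶ X) (π : X ⟶ Y)
      (δ : Y ⟶ (ι.obj N)⟦m⟧⟦(1:ℤ)⟧), Triangle.mk g π δ ∈ distTriang C ∧ t.IsLE Y (b - 1) ∧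
        ∀ a, a < b → t.IsGE X a → t.IsGE Y a := by
  obtain ⟨N, Y, g, π, δ, hT, hY, -, -, hY'⟩ := h.dev (fun _ => True)
      (fun N => ⟨N, 𝟙 N, inferInstance, trivial⟩) X (0 : C) 0 b m hbm hX inferInstance
  exact ⟨N, Y, g, π, δ, hT, hY, hY'⟩

include h τ in
lemma hom_zero_of_LE (hv : NegVan ι F) (n : ℕ) : ∀ (b : ℤ) (X : C) (_ : t.IsGE X (b - n))
    (_ : t.IsLE X b) (N : A) (m : ℤ) (_ : b + m < 0) (φ : F.obj X ⟶ F'.obj ((ι.obj N)⟦m⟧)),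
    φ = 0 := by
  induction n with
  | zero =>
    intro b X h1 h2 N m hbm φ
    obtain ⟨M, ⟨e⟩⟩ := h.exists_iso X b (-b) (by omega) h2 (by simpa using h1)
    rw [← cancel_epi (F.map e.hom), comp_zero]
    exact hom_zero τ hv _ _ _ _ (by omega) _
  | succ n ih =>
    intro b X h1 h2 N m hbm φ
    obtain ⟨M, Y, g, π, δ, hT, hY, hY'⟩ := dev1 h X b (-b) (by omega) h2
    have hFT := map_dist F hT
    obtain ⟨χ, hχ⟩ := yon2 hFT φ (hom_zero τ hv _ _ _ _ (by omega) _)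
    have h3 := hY' (b - (n + 1 : ℕ)) (by push_cast; omega) h1
    have h4 : χ = 0 := ih (b - 1) Y (by convert h3 using 1; push_cast; omega) hY N m (by omega) χ
    rw [hχ, h4, comp_zero]

include h in
lemma exists_compatible_iso (hv : NegVan ι F) (n : ℕ) : ∀ (b m : ℤ) (_ : b + m = 0) (X : C)
    (_ : t.IsGE X (b - n)) (_ : t.IsLE X b),
    ∃ (φ : F.obj X ⟶ F'.obj X) (_ : IsIso φ) (N : A) (Y : C) (g : (ι.obj N)⟦m⟧ ⟶ X) (π : X ⟶ Y)
      (δ : Y ⟶ (ι.obj N)⟦m⟧⟦(1:ℤ)⟧), Triangle.mk g π δ ∈ distTriang C ∧ t.IsLE Y (b - 1) ∧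
      t.IsGE Y (b - 1 - n) ∧ F.map g ≫ φ = (th τ m N).hom ≫ F'.map g := by
  induction n with
  | zero =>
    intro b m hbm X h1 h2
    obtain ⟨M, ⟨e⟩⟩ := h.exists_iso X b m hbm h2 (by simpa using h1)
    obtain ⟨Y, π, δ, hT⟩ := distinguished_cocone_triangle e.hom
    have hY : IsZero Y := (Triangle.isZero₃_iff_isIso₁ _ hT).2 (inferInstanceAs (IsIso e.hom))
    refine ⟨F.map e.inv ≫ (th τ m M).hom ≫ F'.map e.hom, inferInstance, M, Y, e.hom, π, δ, hT,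
      t.isLE_of_isZero hY _, t.isGE_of_isZero hY _, ?_⟩
    rw [← Category.assoc, ← Functor.map_comp]
    simp
  | succ n ih =>
    intro b m hbm X h1 h2
    obtain ⟨N, Y, g, π, δ, hT, hY, hY'⟩ := dev1 h X b m hbm h2
    have h3 := hY' (b - (n + 1 : ℕ)) (by push_cast; omega) h1
    obtain ⟨φY, hφY, N', Y', g', π', δ', hT', hYl', hYg', hg'⟩ := ih (b - 1) (m + 1) (by omega) Y
      (by convert h3 using 1; push_cast; omega) hY
    let e : (ι.obj N)⟦m + 1⟧ ≅ (ι.obj N)⟦m⟧⟦(1:ℤ)⟧ :=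
      (shiftFunctorAdd' C m 1 (m + 1) rfl).app (ι.obj N)
    have hth : F.map e.hom ≫
      (cs F ((ι.obj N)⟦m⟧)).hom ≫ ((th τ m N).hom)⟦(1:ℤ)⟧' =
      (th τ (m + 1) N).hom ≫ F'.map e.hom ≫ (cs F' ((ι.obj N)⟦m⟧)).hom :=
      th_cs τ m (m + 1) rfl N
    obtain ⟨f0, hf0⟩ := h.map_surj (m + 1) (g' ≫ δ ≫ e.inv)
    have hf1 : g' ≫ δ = (ι.map f0)⟦m + 1⟧' ≫ e.hom := by
      rw [hf0]; simp
    have hsq : (F.map δ ≫ (cs F ((ι.obj N)⟦m⟧)).hom) ≫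
        ((th τ m N).hom)⟦(1:ℤ)⟧' =
        φY ≫ F'.map δ ≫ (cs F' ((ι.obj N)⟦m⟧)).hom := by
      rw [← sub_eq_zero]
      set Δ : F.obj Y ⟶ (F'.obj ((ι.obj N)⟦m⟧))⟦(1:ℤ)⟧ :=
        (F.map δ ≫ (cs F ((ι.obj N)⟦m⟧)).hom) ≫
        ((th τ m N).hom)⟦(1:ℤ)⟧' -
        φY ≫ F'.map δ ≫ (cs F' ((ι.obj N)⟦m⟧)).hom with hΔ
      have h5 : F.map g' ≫ Δ = 0 := by
        rw [hΔ, Preadditive.comp_sub, sub_eq_zero, reassoc_of% hg', ← Functor.map_comp_assoc F',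
          hf1, Category.assoc, ← Functor.map_comp_assoc F, hf1, Functor.map_comp, Category.assoc,
          hth, ← Category.assoc, th_nat, Category.assoc, Functor.map_comp, Category.assoc]
      obtain ⟨χ, hχ⟩ := yon2 (map_dist F hT') Δ h5
      let ee : (F'.obj ((ι.obj N)⟦m⟧))⟦(1:ℤ)⟧ ≅ F'.obj ((ι.obj N)⟦m + 1⟧) :=
        (cs F' ((ι.obj N)⟦m⟧)).symm ≪≫ F'.mapIso e.symm
      have h6 : χ ≫ ee.hom = 0 := hom_zero_of_LE h τ hv n (b - 1 - 1) Y' hYg' hYl' N (m + 1)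
        (by omega) _
      have h7 : χ = 0 := by rw [← cancel_mono ee.hom, h6, zero_comp]
      rw [hχ, h7, comp_zero]
    obtain ⟨φ, h8, h9, h10⟩ := tr3₂_iso (map_dist F hT) (map_dist F' hT) (th τ m N).hom φY
      hsq inferInstance hφY
    refine ⟨φ, h10, N, Y, g, π, δ, hT, hY, ?_, h8⟩
    exact t.isGE_of_ge _ (b - 1 - (n + 1 : ℕ)) (b - (n + 1 : ℕ)) (by omega)

include h τ in
theorem siblings (hv : NegVan ι F) (X : C) (hX : ∃ a b : ℤ, t.IsGE X a ∧ t.IsLE X b) :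
    Nonempty (F.obj X ≅ F'.obj X) := by
  obtain ⟨a, b, ha, hb⟩ := hX
  have h1 : t.IsLE X (max a b) := t.isLE_of_le X b _ (le_max_right _ _)
  obtain ⟨φ, hφ, -⟩ := exists_compatible_iso h τ hv (max a b - a).toNat (max a b) (-(max a b))
    (by omega) X (by
      convert ha using 1
      omega) h1
  exact ⟨asIso φ⟩

end K350.Sib
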